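import Mathlib

/-!
Basic helpers for the local analysis of groups of odd order.
-/

set_option autoImplicit false
set_option linter.style.haveILetI false

open scoped commutatorElement

namespace CfsgLib.BG

variable {G : Type*} [Group G]

/-- The action by conjugation of a subgroup `A` on a subgroup `R` it normalizes. -/
def conjAct (A R : Subgroup G) (hA : A ≤ Subgroup.normalizer (R : Set G)) : A →* MulAut R where
  toFun a :=
    { toFun := fun r => ⟨(a : G) * r * (a : G)⁻¹, (Subgroup.mem_normalizer_iff.1 (hA a.2) r).1 r.2⟩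
      invFun := fun r => ⟨(a : G)⁻¹ * r * (a : G), by
        have h := (Subgroup.mem_normalizer_iff.1 (hA (A.inv_mem a.2)) r).1 r.2
        rwa [inv_inv] at h⟩
      left_inv := fun r => Subtype.ext (by simp [mul_assoc])
      right_inv := fun r => Subtype.ext (by simp [mul_assoc])
      map_mul' := fun r s => Subtype.ext (by simp [mul_assoc]) }
  map_one' := MulEquiv.ext fun r => Subtype.ext (by simp)
  map_mul' a b := MulEquiv.ext fun r => Subtype.ext (by simp [mul_assoc])

theorem conjAct_apply (A R : Subgroup G) (hA : A ≤ Subgroup.normalizer (R : Set G)) (a : A) (r : R) :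
    (conjAct A R hA a r : G) = (a : G) * r * (a : G)⁻¹ := rfl

theorem conjAct_eq_one_iff {A R : Subgroup G} {hA : A ≤ Subgroup.normalizer (R : Set G)} {a : A} :
    conjAct A R hA a = 1 ↔ (a : G) ∈ Subgroup.centralizer (R : Set G) := by
  rw [Subgroup.mem_centralizer_iff]
  constructor
  · intro h r hr
    exact (mul_inv_eq_iff_eq_mul.1 (congrArg Subtype.val (DFunLike.congr_fun h ⟨r, hr⟩))).symm
  · intro h
    refine MulEquiv.ext fun r => Subtype.ext ?_
    show (a : G) * r * (a : G)⁻¹ = r
    rw [← h r r.2, mul_inv_cancel_right]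

theorem conjAct_injective {A R : Subgroup G} (hA : A ≤ Subgroup.normalizer (R : Set G))
    (hf : A ⊓ Subgroup.centralizer (R : Set G) = ⊥) : Function.Injective (conjAct A R hA) := by
  refine (injective_iff_map_eq_one _).2 fun a h => Subtype.ext ?_
  exact Subgroup.mem_bot.1 (hf ▸ Subgroup.mem_inf.2 ⟨a.2, conjAct_eq_one_iff.1 h⟩)

/-- If `R = [R, A]` then the displacements `x⁻¹ a(x)` generate `R`. -/
theorem closure_diff_eq_top {A R : Subgroup G} (hA : A ≤ Subgroup.normalizer (R : Set G))
    (hRA : ⁅R, A⁆ = R) :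
    Subgroup.closure {w : R | ∃ (a : A) (x : R), w = x⁻¹ * conjAct A R hA a x} = ⊤ := by
  refine Subgroup.map_injective R.subtype_injective ?_
  rw [← MonoidHom.range_eq_map, Subgroup.range_subtype]
  refine le_antisymm (Subgroup.map_subtype_le _) ?_
  conv_lhs => rw [← hRA]
  refine Subgroup.commutator_le.2 fun r hr a ha => ?_
  refine ⟨(⟨r, hr⟩ : R) * conjAct A R hA ⟨a, ha⟩ (⟨r, hr⟩ : R)⁻¹, Subgroup.subset_closure
    ⟨⟨a, ha⟩, (⟨r, hr⟩ : R)⁻¹, by rw [inv_inv]⟩, ?_⟩
  show r * (a * r⁻¹ * a⁻¹) = ⁅r, a⁆
  rw [commutatorElement_def]; group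

/-- The derived subgroup of a subgroup, seen in the group. -/
theorem map_commutator_subtype (A : Subgroup G) : (commutator A).map A.subtype = ⁅A, A⁆ := by
  rw [commutator_def, Subgroup.map_commutator, ← MonoidHom.range_eq_map, Subgroup.range_subtype]

end CfsgLib.BG
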