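import Mathlib
import Cfsg.Agent.Lib.SL2.Basic

/-!
A finite solvable group of odd order of `2 × 2` matrices in odd characteristic `p` has a derived
subgroup of exponent `p`, and so does such a group of automorphisms of a group of order at most `p ^ 2`.
-/

set_option autoImplicit false
set_option linter.style.haveILetI false

open scoped commutatorElement
open Matrix

namespace CfsgLib.BG

/-- The commutant of a non-scalar `2 × 2` matrix `S` is spanned by `1` and `S`. -/
theorem exists_eq_smul_add {F : Type*} [Field F] (S X : Matrix (Fin 2) (Fin 2) F)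
    (hS : ∀ c : F, S ≠ c • 1) (h : S * X = X * S) : ∃ α β : F, X = α • 1 + β • S := by
  have e00 := congrFun (congrFun h 0) 0
  have e01 := congrFun (congrFun h 0) 1
  have e10 := congrFun (congrFun h 1) 0
  simp only [Matrix.mul_apply, Fin.sum_univ_two] at e00 e01 e10
  by_cases h01 : S 0 1 = 0
  · by_cases h10 : S 1 0 = 0
    · have hd : S 0 0 - S 1 1 ≠ 0 := by
        intro hd
        refine hS (S 0 0) ?_
        ext i j
        fin_cases i <;> fin_cases j <;> simp [h01, h10]
        exact (sub_eq_zero.1 hd).symm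
      have x01 : X 0 1 = 0 := by
        have : (S 0 0 - S 1 1) * X 0 1 = 0 := by rw [h01] at e01; linear_combination e01
        exact (mul_eq_zero.1 this).resolve_left hd
      have x10 : X 1 0 = 0 := by
        have : (S 0 0 - S 1 1) * X 1 0 = 0 := by rw [h10] at e10; linear_combination -e10
        exact (mul_eq_zero.1 this).resolve_left hd
      refine ⟨X 0 0 - (X 0 0 - X 1 1) / (S 0 0 - S 1 1) * S 0 0, (X 0 0 - X 1 1) / (S 0 0 - S 1 1), ?_⟩
      ext i j
      fin_cases i <;> fin_cases j <;> simp [h01, h10, x01, x10]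
      field_simp
      ring
    · refine ⟨X 0 0 - X 1 0 / S 1 0 * S 0 0, X 1 0 / S 1 0, ?_⟩
      have x01 : X 0 1 = 0 := by
        have : X 0 1 * S 1 0 = 0 := by rw [h01] at e00; linear_combination -e00
        exact (mul_eq_zero.1 this).resolve_right h10
      ext i j
      fin_cases i <;> fin_cases j <;> simp [h01, x01, h10]
      field_simp
      linear_combination -e10
  · refine ⟨X 0 0 - X 0 1 / S 0 1 * S 0 0, X 0 1 / S 0 1, ?_⟩
    ext i j
    fin_cases i <;> fin_cases j <;> simp [h01]
    · field_simp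
      linear_combination e00
    · field_simp
      linear_combination e01

theorem matrix_derived_pow_eq_one {F : Type*} [Field F] (p : ℕ) [hp : Fact p.Prime] [CharP F p]
    (hp2 : p ≠ 2) (A : Subgroup (GL (Fin 2) F)) [Finite A] (hA : Group.IsSolvable A)
    (hodd : Odd (Nat.card A)) {a : A} (ha : a ∈ commutator A) : a ^ p = 1 := by
  classical
  have h2 : (2 : F) ≠ 0 := by
    intro h
    have h' : ((2 : ℕ) : F) = 0 := by exact_mod_cast h
    rw [CharP.cast_eq_zero_iff F p] at h'
    exact hp2 ((Nat.prime_dvd_prime_iff_eq hp.out Nat.prime_two).1 h')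
  let μ : A →* Matrix (Fin 2) (Fin 2) F := (Units.coeHom _).comp A.subtype
  have hμ : Function.Injective μ := fun x y h => Subtype.ext (Units.ext h)
  have hdet1 : ∀ x ∈ commutator A, (μ x).det = 1 := by
    intro x hx
    have h1 := Abelianization.commutator_subset_ker (Matrix.GeneralLinearGroup.det.comp A.subtype) hx
    exact congrArg (fun u : Fˣ => (u : F)) (MonoidHom.mem_ker.1 h1)
  have hscalar : ∀ x : A, (μ x).det = 1 → ∀ c : F, μ x = c • 1 → x = 1 := by
    intro x hx c hc
    rw [hc, Matrix.det_smul, Matrix.det_one, mul_one, Fintype.card_fin] at hx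
    have h3 : x ^ 2 = 1 := hμ (by rw [map_pow, hc, map_one, smul_pow, one_pow, hx, one_smul])
    rw [← orderOf_eq_one_iff]
    rcases (Nat.dvd_prime Nat.prime_two).1 (orderOf_dvd_of_pow_eq_one h3) with h | h
    · exact h
    · exact absurd (h ▸ orderOf_dvd_natCard x) (by
        rw [← even_iff_two_dvd]; exact Nat.not_even_iff_odd.2 hodd)
  by_cases hab : commutator A = ⊥
  · rw [hab, Subgroup.mem_bot] at ha
    rw [ha, one_pow]
  obtain ⟨d, hd⟩ := (isSolvable_def A).1 hA
  obtain ⟨m, hm0, hm1⟩ : ∃ m, derivedSeries A (m + 1) ≠ ⊥ ∧ derivedSeries A (m + 2) = ⊥ := by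
    have hd' : derivedSeries A (d + 1) = ⊥ :=
      le_bot_iff.1 ((derivedSeries_antitone A (Nat.le_succ d)).trans hd.le)
    have hex : ∃ m, derivedSeries A (m + 1) = ⊥ := ⟨d, hd'⟩
    have hk : Nat.find hex ≠ 0 := fun h0 => hab (by
      have := Nat.find_spec hex
      rwa [h0, zero_add, derivedSeries_one] at this)
    refine ⟨Nat.find hex - 1, ?_, ?_⟩
    · exact Nat.find_min hex (by omega)
    · rw [show Nat.find hex - 1 + 2 = Nat.find hex + 1 by omega]
      exact Nat.find_spec hex
  set N := derivedSeries A (m + 1) with hN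
  have hNc : N ≤ commutator A :=
    (derivedSeries_antitone A (show 1 ≤ m + 1 by omega)).trans (derivedSeries_one A).le
  haveI hNn : N.Normal := derivedSeries_normal A _
  have hNab : ∀ x ∈ N, ∀ y ∈ N, Commute x y := fun x hx y hy =>
    commutatorElement_eq_one_iff_commute.1 (Subgroup.mem_bot.1
      (hm1 ▸ Subgroup.commutator_mem_commutator hx hy))
  obtain ⟨⟨s, hsN⟩, hs1⟩ := Subgroup.ne_bot_iff_exists_ne_one.1 hm0
  have hs1' : s ≠ 1 := fun h => hs1 (Subtype.ext h)
  set S := μ s with hS
  have hSns : ∀ c : F, S ≠ c • 1 := fun c hc => hs1' (hscalar s (hdet1 s (hNc hsN)) c hc)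
  have hSdet : S.det = 1 := hdet1 s (hNc hsN)
  set t := S.trace with ht
  have hSS : S * S = t • S - 1 := by rw [CfsgLib.SL2.cayley, hSdet, one_smul]
  have hconj : ∀ g : A, ∃ β : F, μ (g * s * g⁻¹) = (t * (1 - β) / 2) • 1 + β • S ∧
      (1 - β ^ 2) * (t ^ 2 - 4) = 0 := by
    intro g
    have hu : g * s * g⁻¹ ∈ N := hNn.conj_mem s hsN g
    obtain ⟨α, β, hαβ⟩ := exists_eq_smul_add S (μ (g * s * g⁻¹)) hSns (by
      rw [hS, ← map_mul, ← map_mul, (hNab s hsN _ hu).eq])
    have htr : (μ (g * s * g⁻¹)).trace = t := by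
      rw [map_mul, map_mul, Matrix.trace_mul_cycle, ← map_mul, inv_mul_cancel, map_one, one_mul]
    have htr' : 2 * α + β * t = t := by
      conv_rhs => rw [← htr, hαβ]
      rw [Matrix.trace_add, Matrix.trace_smul, Matrix.trace_smul, Matrix.trace_one, Fintype.card_fin]
      simp only [smul_eq_mul, ← ht]
      push_cast
      ring
    have hdet : α ^ 2 + α * β * t + β ^ 2 = 1 := by
      have h1 : (μ (g * s * g⁻¹)).det = 1 := by
        rw [map_mul, map_mul, Matrix.det_mul, Matrix.det_mul, mul_right_comm, ← Matrix.det_mul,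
          ← map_mul, mul_inv_cancel, map_one, Matrix.det_one, one_mul, hSdet]
      conv_rhs => rw [← h1, hαβ]
      have h2' : S.det = S 0 0 * S 1 1 - S 0 1 * S 1 0 := Matrix.det_fin_two S
      have h3 : t = S 0 0 + S 1 1 := by rw [ht, Matrix.trace_fin_two]
      simp [Matrix.det_fin_two]
      rw [h3]
      linear_combination β ^ 2 * (h2'.symm.trans hSdet).symm
    have hα : α = t * (1 - β) / 2 := by
      field_simp
      linear_combination htr'
    refine ⟨β, by rw [← hα]; exact hαβ, ?_⟩
    rw [hα] at hdet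
    field_simp at hdet
    linear_combination hdet
  have hdisc : t ^ 2 = 4 := by
    by_contra hne
    have hβ : ∀ g : A, g * s * g⁻¹ = s ∨ g * s * g⁻¹ = s⁻¹ := by
      intro g
      obtain ⟨β, h1, h3⟩ := hconj g
      rcases mul_eq_zero.1 h3 with h4 | h4
      · have h5 : (β - 1) * (β + 1) = 0 := by linear_combination -h4
        rcases mul_eq_zero.1 h5 with h6 | h6
        · left
          refine hμ ?_
          rw [h1, sub_eq_zero.1 h6, sub_self, mul_zero, zero_div, zero_smul, zero_add, one_smul]
        · right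
          refine eq_inv_of_mul_eq_one_left (hμ ?_)
          rw [map_mul, h1, eq_neg_of_add_eq_zero_left h6, map_one,
            show t * (1 - -1) / 2 = t by field_simp; ring, add_mul, smul_one_mul, ← hS, neg_one_smul,
            neg_mul, hSS]
          abel
      · exact absurd (sub_eq_zero.1 h4) hne
    have hcen : ∀ g : A, g * s * g⁻¹ = s := by
      intro g
      rcases hβ g with h | h
      · exact h
      exfalso
      obtain ⟨k, hk⟩ := (Odd.of_dvd_nat hodd (orderOf_dvd_natCard g))
      have hsq : g ^ 2 * s * (g ^ 2)⁻¹ = s := by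
        calc g ^ 2 * s * (g ^ 2)⁻¹ = g * (g * s * g⁻¹) * g⁻¹ := by rw [pow_two]; group
          _ = g * s⁻¹ * g⁻¹ := by rw [h]
          _ = (g * s * g⁻¹)⁻¹ := by group
          _ = s := by rw [h, inv_inv]
      have hsq' : Commute (g ^ 2) s := mul_inv_eq_iff_eq_mul.1 hsq
      have h5 : g = (g ^ 2) ^ (k + 1) := by
        rw [← pow_mul, show 2 * (k + 1) = orderOf g + 1 by omega, pow_succ, pow_orderOf_eq_one, one_mul]
      have h6 : Commute g s := by rw [h5]; exact hsq'.pow_left _
      rw [h6.eq, mul_inv_cancel_right] at h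
      have h7 : s ^ 2 = 1 := by
        rw [pow_two]
        nth_rewrite 2 [h]
        exact mul_inv_cancel s
      rcases (Nat.dvd_prime Nat.prime_two).1 (orderOf_dvd_of_pow_eq_one h7) with h8 | h8
      · exact hs1' (orderOf_eq_one_iff.1 h8)
      · exact absurd (h8 ▸ orderOf_dvd_natCard s) (by
          rw [← even_iff_two_dvd]; exact Nat.not_even_iff_odd.2 hodd)
    refine hab (le_bot_iff.1 ?_)
    rw [commutator_def, Subgroup.commutator_le]
    intro x _ y _
    rw [Subgroup.mem_bot, commutatorElement_eq_one_iff_mul_comm]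
    have hx : ∀ x : A, ∃ α β : F, μ x = α • 1 + β • S := fun x => exists_eq_smul_add S (μ x) hSns (by
      rw [hS, ← map_mul, ← map_mul, ← mul_inv_eq_iff_eq_mul.1 (hcen x)])
    obtain ⟨α, β, h1⟩ := hx x
    obtain ⟨α', β', h1'⟩ := hx y
    refine hμ ?_
    rw [map_mul, map_mul, h1, h1']
    simp only [add_mul, mul_add, smul_mul_smul_comm, one_mul, mul_one, mul_comm α' α, mul_comm α' β,
      mul_comm β' α, mul_comm β' β]
    abel
  -- the nilpotent part `M`
  set M := S - (t / 2) • 1 with hM
  have hM2 : M * M = 0 := by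
    simp only [hM, sub_mul, mul_sub, smul_one_mul, mul_smul_one, hSS, smul_smul]
    have : t / 2 * (t / 2) = (1 : F) := by field_simp; linear_combination hdisc
    rw [smul_sub, smul_smul, this, one_smul]
    have h22 : t • S = (t / 2) • S + (t / 2) • S := by rw [← add_smul]; congr 1; field_simp; ring
    rw [h22]
    abel
  have hM0 : M ≠ 0 := fun h => hSns (t / 2) (sub_eq_zero.1 h)
  have hχex : ∀ g : A, ∃ β : F, μ g * M = β • (M * μ g) := by
    intro g
    obtain ⟨β, h1, -⟩ := hconj g
    refine ⟨β, ?_⟩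
    have h3 : μ g * S = μ (g * s * g⁻¹) * μ g := by
      rw [hS, ← map_mul, ← map_mul, inv_mul_cancel_right]
    rw [hM, mul_sub, h3, h1, add_mul, smul_one_mul, smul_mul_assoc, mul_smul_one, sub_mul,
      smul_one_mul, smul_sub, smul_smul, show t * (1 - β) / 2 = t / 2 - β * (t / 2) by ring, sub_smul]
    abel
  choose β hβ using hχex
  have hMg : ∀ g : A, M * μ g ≠ 0 := fun g h => hM0 (by
    have := congrArg (· * μ g⁻¹) h
    simpa [mul_assoc, ← map_mul] using this)
  have hβmul : ∀ g h : A, β (g * h) = β g * β h := by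
    intro g h
    have h1 : μ (g * h) * M = (β g * β h) • (M * μ (g * h)) := by
      rw [map_mul, mul_assoc, hβ h, mul_smul_comm, ← mul_assoc, hβ g, smul_mul_assoc, smul_smul,
        mul_assoc, mul_comm (β h) (β g)]
    have h2 := (hβ (g * h)).symm.trans h1
    rw [← sub_eq_zero, ← sub_smul, smul_eq_zero] at h2
    exact sub_eq_zero.1 (h2.resolve_right (hMg _))
  have hβ1 : β 1 = 1 := by
    have h1 := hβ 1
    rw [map_one, one_mul, mul_one] at h1
    have h2 : (1 - β 1) • M = 0 := by rw [sub_smul, one_smul, ← h1, sub_self]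
    exact (sub_eq_zero.1 ((smul_eq_zero.1 h2).resolve_right hM0)).symm
  let βu : A →* Fˣ := MonoidHom.mk' (fun g => ⟨β g, β g⁻¹, by rw [← hβmul, mul_inv_cancel, hβ1],
    by rw [← hβmul, inv_mul_cancel, hβ1]⟩) fun g h => Units.ext (hβmul g h)
  have hβa : β a = 1 := congrArg (fun u : Fˣ => (u : F))
    (MonoidHom.mem_ker.1 (Abelianization.commutator_subset_ker βu ha))
  have hcomm : S * μ a = μ a * S := by
    have h1 := hβ a
    rw [hβa, one_smul, hM, mul_sub, sub_mul, mul_smul_one, smul_one_mul, sub_left_inj] at h1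
    exact h1.symm
  obtain ⟨α, γ, hαγ⟩ := exists_eq_smul_add S (μ a) hSns hcomm
  refine hscalar (a ^ p) (by rw [map_pow, Matrix.det_pow, hdet1 a ha, one_pow])
    ((α + γ * (t / 2)) ^ p) ?_
  haveI : CharP (Matrix (Fin 2) (Fin 2) F) p := inferInstance
  have h3 : μ a = (α + γ * (t / 2)) • 1 + γ • M := by
    rw [hαγ, hM, smul_sub, smul_smul, add_smul]
    abel
  have hMp : M ^ p = 0 := by
    obtain ⟨k, hk⟩ := Nat.exists_eq_add_of_le hp.out.two_le
    rw [hk, pow_add, pow_two, hM2, zero_mul]
  rw [map_pow, h3, add_pow_char_of_commute p ((Commute.one_left _).smul_left _), smul_pow, one_pow,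
    smul_pow, hMp, smul_zero, add_zero]

/-- Automorphisms of an elementary abelian group of order at most `p ^ 2`. -/
theorem derived_pow_eq_one {V : Type*} [Group V] [Finite V] {p : ℕ} [hp : Fact p.Prime] (hp2 : p ≠ 2)
    (hab : ∀ x y : V, x * y = y * x) (hexp : ∀ x : V, x ^ p = 1) (hcard : Nat.card V ≤ p ^ 2)
    {A : Type*} [Group A] [Finite A] (hA : Group.IsSolvable A) (hodd : Odd (Nat.card A))
    (f : A →* MulAut V) {a : A} (ha : a ∈ commutator A) : f a ^ p = 1 := by
  classical
  by_cases hcyc : IsCyclic V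
  · have h1 := Abelianization.commutator_subset_ker
      ((IsCyclic.mulAutMulEquiv V).toMonoidHom.comp f) ha
    rw [MonoidHom.mem_ker, MonoidHom.comp_apply, MulEquiv.coe_toMonoidHom, map_eq_one_iff _
      (IsCyclic.mulAutMulEquiv V).injective] at h1
    rw [h1, one_pow]
  letI : CommGroup V := { ‹Group V› with mul_comm := hab }
  haveI : Module (ZMod p) (Additive V) := AddCommGroup.zmodModule fun x => by
    simpa using congrArg Additive.ofMul (hexp x.toMul)
  haveI : Module.Finite (ZMod p) (Additive V) := Module.Finite.of_finite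
  have hr : Module.finrank (ZMod p) (Additive V) = 2 := by
    have h1 : Nat.card (Additive V) = p ^ Module.finrank (ZMod p) (Additive V) := by
      rw [Module.natCard_eq_pow_finrank (K := ZMod p), Nat.card_zmod]
    have h2 : Nat.card (Additive V) = Nat.card V := rfl
    set d := Module.finrank (ZMod p) (Additive V)
    rw [h2] at h1
    have hd : d ≤ 2 := (Nat.pow_le_pow_iff_right hp.out.one_lt).1 (h1 ▸ hcard)
    by_contra hd2
    apply hcyc
    rcases Nat.lt_or_ge d 1 with h | h
    · haveI : Subsingleton V :=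
        (Nat.card_eq_one_iff_unique.1 (by rw [h1, show d = 0 by omega, pow_zero])).1
      exact isCyclic_of_subsingleton
    · exact isCyclic_of_prime_card (p := p) (by rw [h1, show d = 1 by omega, pow_one])
  let b := (Module.finBasis (ZMod p) (Additive V)).reindex (finCongr hr)
  let ψ : MulAut V →* (Additive V →ₗ[ZMod p] Additive V) :=
    { toFun := fun e => (MonoidHom.toAdditive e.toMonoidHom).toZModLinearMap p
      map_one' := LinearMap.ext fun x => rfl
      map_mul' := fun e e' => LinearMap.ext fun x => rfl }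
  have hψ : Function.Injective ψ := fun e e' h => MulEquiv.ext fun x =>
    congrArg Additive.toMul (LinearMap.congr_fun h (Additive.ofMul x))
  let φ : A →* GL (Fin 2) (ZMod p) :=
    (((LinearMap.toMatrixAlgEquiv b).toMonoidHom).comp (ψ.comp f)).toHomUnits
  have hφ : ∀ x : A, φ x = 1 → f x = 1 := by
    intro x hx
    refine hψ ((LinearMap.toMatrixAlgEquiv b).injective ?_)
    rw [map_one, map_one]
    exact congrArg (fun u : GL (Fin 2) (ZMod p) => (u : Matrix (Fin 2) (Fin 2) (ZMod p))) hx
  haveI := hA
  haveI : Group.IsSolvable φ.range := solvable_of_surjective φ.rangeRestrict_surjective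
  have hodd' : Odd (Nat.card φ.range) := Odd.of_dvd_nat hodd
    (Subgroup.card_dvd_of_surjective φ.rangeRestrict φ.rangeRestrict_surjective)
  have hmem : φ.rangeRestrict a ∈ commutator φ.range := by
    rw [commutator_def, ← Subgroup.map_top_of_surjective φ.rangeRestrict φ.rangeRestrict_surjective,
      ← Subgroup.map_commutator]
    exact Subgroup.mem_map_of_mem _ (commutator_def A ▸ ha)
  have h1 := matrix_derived_pow_eq_one (F := ZMod p) p hp2 φ.range inferInstance hodd' hmem
  rw [← map_pow]
  exact hφ _ (by rw [map_pow]; exact congrArg Subtype.val h1)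

end CfsgLib.BG
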