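import Mathlib
import Cfsg.Agent.Lib.BG.LinearTwo
import Cfsg.Agent.Lib.PGroup.RankTwoBlackburn
import Cfsg.Agent.Lib.PGroup.CoprimeAut
import Cfsg.Agent.Lib.OddOmega.Basic

/-!
Operator groups on `p`-groups of rank at most two, `p` odd (BG 4.18).
-/

set_option autoImplicit false
set_option linter.style.haveILetI false

open scoped commutatorElement

namespace CfsgLib.BG

universe u

variable {p : ℕ} [hp : Fact p.Prime]

/-- A rank two `p`-group has a characteristic subgroup with at most two generators on which every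
`p'`-automorphism acts faithfully. -/
theorem exists_test_subgroup {R : Type u} [Group R] [Finite R] (hp2 : p ≠ 2) (hR : IsPGroup p R)
    (hrk : Cfsg.PRankLE p 2 R) :
    ∃ W : Subgroup R, W.Characteristic ∧ (frattini W).index ≤ p ^ 2 ∧
      ∀ φ : MulAut R, (orderOf φ).Coprime p → (∀ x ∈ W, φ x = x) → φ = 1 := by
  classical
  have hpp := hp.out
  obtain ⟨n, hn⟩ := IsPGroup.iff_card.1 hR
  have htop : (frattini R).index ≤ p ^ 2 → ∃ W : Subgroup R, W.Characteristic ∧
      (frattini W).index ≤ p ^ 2 ∧ ∀ φ : MulAut R, (orderOf φ).Coprime p → (∀ x ∈ W, φ x = x) → φ = 1 := by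
    intro h
    refine ⟨⊤, inferInstance, ?_, fun φ _ hφ => MulEquiv.ext fun x => hφ x (Subgroup.mem_top x)⟩
    refine le_trans ?_ h
    rw [← Subgroup.index_comap_of_surjective (frattini (⊤ : Subgroup R))
      (f := (Subgroup.topEquiv (G := R)).symm.toMonoidHom) (MulEquiv.surjective _)]
    exact Nat.le_of_dvd (Nat.pos_of_ne_zero Subgroup.index_ne_zero_of_finite)
      (Subgroup.index_dvd_of_le (frattini_le_comap_frattini_of_surjective (MulEquiv.surjective _)))
  have homega : ∀ W : Subgroup R, (∀ x, x ∈ W ↔ x ^ p = 1) → (frattini W).index ≤ p ^ 2 →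
      ∃ W : Subgroup R, W.Characteristic ∧ (frattini W).index ≤ p ^ 2 ∧
        ∀ φ : MulAut R, (orderOf φ).Coprime p → (∀ x ∈ W, φ x = x) → φ = 1 := by
    intro W hW hi
    refine ⟨W, ⟨fun φ => ?_⟩, hi, fun φ hc hfix => OddOmega.eq_one_of_fixes_omega hp2 hR φ
      (fun hd => hpp.not_dvd_one (hc ▸ Nat.dvd_gcd hd dvd_rfl)) fun x hx => hfix x ((hW x).2 hx)⟩
    ext x
    rw [Subgroup.mem_comap, hW, hW, MulEquiv.coe_toMonoidHom, ← map_pow, EmbeddingLike.map_eq_one_iff]
  rcases RankTwoBlackburn.classify_aux hp2 n R hn hrk with ⟨hn2, hcl⟩ | hm | ⟨R0, hRc, hRe, c, hc, hco⟩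
  · refine htop ?_
    rcases eq_or_lt_of_le hn2 with rfl | hn3
    · exact hn ▸ Nat.le_of_dvd Nat.card_pos (Subgroup.index_dvd_card _)
    haveI := hR.isNilpotent
    have hclass : Group.nilpotencyClass R = n - 1 := by
      refine le_antisymm (Subgroup.lowerCentralSeries_eq_bot_iff_nilpotencyClass_le.1 ?_) ?_
      · refine Subgroup.eq_bot_of_card_le _ ((le_of_eq ?_).trans
          ((MaxClass.card_lcs_succ_le hn (n - 2)).trans (by rw [Nat.sub_self, pow_zero])))
        rw [show n - 2 + 1 = n - 1 by omega]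
      · by_contra h
        exact hcl (Subgroup.lowerCentralSeries_eq_bot_iff_nilpotencyClass_le.2 (by omega))
    have hD := MaxClass.card_lcs_eq hn hclass hn3 0 (by omega)
    rw [zero_add, Subgroup.top_lowerCentralSeries_one, Nat.sub_zero] at hD
    refine (Nat.le_of_dvd (Nat.pos_of_ne_zero Subgroup.index_ne_zero_of_finite)
      (Subgroup.index_dvd_of_le (PSolvable.commutator_le_frattini hR).1)).trans ?_
    have h1 := (commutator R).card_mul_index
    rw [hD, hn, show n = n - 2 + 2 by omega, pow_add] at h1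
    exact (Nat.eq_of_mul_eq_mul_left (pow_pos hpp.pos _) (by simpa using h1)).le
  · by_cases hcyc : IsCyclic R
    · refine htop ?_
      obtain ⟨g, hg⟩ := hcyc.exists_generator
      refine (PGroup.frattini_index_le hR {g} ?_).trans ?_
      · rw [Finset.coe_singleton, ← Subgroup.zpowers_eq_closure, eq_top_iff]
        exact fun x _ => hg x
      · rw [Finset.card_singleton]
        exact Nat.pow_le_pow_right hpp.pos (by omega)
    obtain ⟨N, hNn, hNc, hNq⟩ := hm
    haveI := hNn
    obtain ⟨W, hWe, hWc, hWm⟩ := CyclicMax.metacyclic_omega hR hp2 N hNc hNq hcyc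
    exact homega W (fun x => ⟨hWe.2 x, hWm x⟩)
      (hWc ▸ Nat.le_of_dvd Nat.card_pos (Subgroup.index_dvd_card _))
  · haveI := RankTwoThree.normal_of_big hR hp2 hrk R0 hRc hRe hc hco
    refine homega R0 (fun x => ⟨hRe x, RankTwoThree.mem_of_pow_eq_one hR hp2 hrk R0 hRc hRe hc hco⟩) ?_
    have h1 := (frattini R0).card_mul_index
    rw [hRc] at h1
    have h2 : p ≤ Nat.card (frattini R0) := by
      obtain ⟨k, hk⟩ := IsPGroup.iff_card.1 ((hR.to_subgroup R0).to_subgroup (frattini R0))
      rcases Nat.eq_zero_or_pos k with rfl | hk0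
      · exfalso
        rw [pow_zero] at hk
        have hbot : commutator R0 = ⊥ := le_bot_iff.1
          ((PSolvable.commutator_le_frattini (hR.to_subgroup R0)).1.trans
            (Subgroup.eq_bot_of_card_eq _ hk).le)
        have h3 := hrk R0 ⟨⟨fun a b => commutatorElement_eq_one_iff_mul_comm.1 (Subgroup.mem_bot.1
          (hbot ▸ (commutator_def R0 ▸ Subgroup.commutator_mem_commutator (Subgroup.mem_top a)
            (Subgroup.mem_top b))))⟩⟩ hRe
        rw [hRc, Nat.pow_le_pow_iff_right hpp.one_lt] at h3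
        omega
      · rw [hk]; exact Nat.le_of_dvd (pow_pos hpp.pos _) (dvd_pow_self p hk0.ne')
    refine Nat.le_of_mul_le_mul_left ?_ hpp.pos
    calc p * (frattini R0).index ≤ Nat.card (frattini R0) * (frattini R0).index :=
          Nat.mul_le_mul_right _ h2
      _ = p * p ^ 2 := by rw [h1, ← pow_succ']

/-- BG 4.18: the derived subgroup of an odd solvable group acting on a rank two `p`-group consists of
elements acting as `p`-elements. -/
theorem derived_acts_as_pElement {R : Type u} [Group R] [Finite R] (hp2 : p ≠ 2) (hR : IsPGroup p R)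
    (hrk : Cfsg.PRankLE p 2 R) {A : Type*} [Group A] [Finite A] (hA : Group.IsSolvable A)
    (hodd : Odd (Nat.card A)) (f : A →* MulAut R) {a : A} (ha : a ∈ commutator A) :
    ∃ k : ℕ, f a ^ p ^ k = 1 := by
  classical
  have hpp := hp.out
  haveI : Finite (MulAut R) :=
    Finite.of_injective (fun e : MulAut R => (e : R → R)) fun a b h => MulEquiv.ext (congrFun h)
  obtain ⟨W, hWch, hWi, hW⟩ := exists_test_subgroup hp2 hR hrk
  have hmem : ∀ (φ : MulAut R) (x : R), x ∈ W → φ x ∈ W := fun φ x hx => by
    have h1 : x ∈ W.comap φ.toMonoidHom := (hWch.fixed φ).symm ▸ hx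
    exact h1
  let res : MulAut R →* MulAut W :=
    { toFun := fun φ =>
        { toFun := fun x => ⟨φ x, hmem φ x x.2⟩
          invFun := fun x => ⟨φ⁻¹ x, hmem φ⁻¹ x x.2⟩
          left_inv := fun x => Subtype.ext (φ.symm_apply_apply x)
          right_inv := fun x => Subtype.ext (φ.apply_symm_apply x)
          map_mul' := fun x y => Subtype.ext (map_mul φ (x : R) y) }
      map_one' := MulEquiv.ext fun x => rfl
      map_mul' := fun φ ψ => MulEquiv.ext fun x => rfl }
  let ι : MulAut W →* MulAut (W ⧸ frattini W) :=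
    { toFun := fun α => QuotientGroup.congr (frattini W) (frattini W) α
        (Subgroup.characteristic_iff_map_eq.mp inferInstance α)
      map_one' := MulEquiv.ext fun v => by
        induction v using QuotientGroup.induction_on with
        | H x => rfl
      map_mul' := fun α β => MulEquiv.ext fun v => by
        induction v using QuotientGroup.induction_on with
        | H x => rfl }
  have hWp : IsPGroup p W := hR.to_subgroup W
  have hab : ∀ x y : W ⧸ frattini W, x * y = y * x := fun x y => by
    obtain ⟨x, rfl⟩ := QuotientGroup.mk'_surjective _ x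
    obtain ⟨y, rfl⟩ := QuotientGroup.mk'_surjective _ y
    rw [← commutatorElement_eq_one_iff_mul_comm, ← map_commutatorElement]
    exact (QuotientGroup.eq_one_iff _).2 ((PSolvable.commutator_le_frattini hWp).1
      (commutator_def W ▸ Subgroup.commutator_mem_commutator (Subgroup.mem_top x) (Subgroup.mem_top y)))
  have hexp : ∀ x : W ⧸ frattini W, x ^ p = 1 := fun x => by
    obtain ⟨x, rfl⟩ := QuotientGroup.mk'_surjective _ x
    rw [← map_pow]
    exact (QuotientGroup.eq_one_iff _).2 ((PSolvable.commutator_le_frattini hWp).2 x)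
  have h1 := derived_pow_eq_one hp2 hab hexp (Subgroup.index_eq_card (frattini W) ▸ hWi) hA hodd
    (ι.comp (res.comp f)) ha
  simp only [MonoidHom.comp_apply, ← map_pow] at h1
  obtain ⟨k, m, hm, hord⟩ := Nat.exists_eq_pow_mul_and_not_dvd (orderOf_pos (f a)).ne' p hpp.ne_one
  refine ⟨k + 1, hW _ ?_ fun x hx => ?_⟩
  · refine Nat.Coprime.coprime_dvd_left (orderOf_dvd_of_pow_eq_one (n := m) ?_)
      ((hpp.coprime_iff_not_dvd.2 hm).symm)
    rw [← pow_mul, pow_succ, mul_right_comm, pow_mul, ← hord, pow_orderOf_eq_one, one_pow]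
  · set φ := f a ^ p ^ (k + 1) with hφ
    have hι : ι (res φ) = 1 := by
      rw [hφ, pow_succ', pow_mul, ← map_pow f, map_pow res, map_pow ι, h1, one_pow]
    have hco : (orderOf (res φ)).Coprime (Nat.card (frattini W)) := by
      obtain ⟨e, he⟩ := IsPGroup.iff_card.1 (hWp.to_subgroup (frattini W))
      rw [he]
      refine Nat.Coprime.pow_right e (Nat.Coprime.coprime_dvd_left (orderOf_dvd_of_pow_eq_one (n := m) ?_)
        ((hpp.coprime_iff_not_dvd.2 hm).symm))
      rw [← map_pow, hφ, ← pow_mul, pow_succ, mul_right_comm, pow_mul, ← hord, pow_orderOf_eq_one,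
        one_pow, map_one]
    have h2 : res φ = 1 := CfsgLib.Coprime.mulAut_eq_one_of_frattini (res φ) hco fun w => by
      rw [← QuotientGroup.eq_one_iff, QuotientGroup.mk_mul, QuotientGroup.mk_inv]
      have h3 : ι (res φ) (QuotientGroup.mk w) = QuotientGroup.mk w := by rw [hι]; rfl
      change (QuotientGroup.mk w)⁻¹ * ι (res φ) (QuotientGroup.mk w) = 1
      rw [h3, inv_mul_cancel]
    exact congrArg Subtype.val (DFunLike.congr_fun h2 ⟨x, hx⟩)

end CfsgLib.BG
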