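import Mathlib
import Cfsg.Agent.Lib.BG.RankTwoOperators
import Cfsg.Agent.Lib.PGroup.RankTwoShape

/-!
Blackburn's theorem on rank two `p`-groups `X` with `X = [X, A]` for an odd `p'`-group `A` (BG 4.17).
-/

set_option autoImplicit false
set_option linter.style.haveILetI false

open scoped commutatorElement

namespace CfsgLib.BG

universe u

variable {p : ℕ} [hp : Fact p.Prime] {X : Type u} [Group X] [Finite X]

/-- For `p = 3` a coprime automorphism of odd order of a rank two `3`-group is trivial. -/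
theorem eq_one_of_three (hp3 : p = 3) (hX : IsPGroup p X) (hrk : Cfsg.PRankLE p 2 X) (φ : MulAut X)
    (hodd : Odd (orderOf φ)) (hcop : (orderOf φ).Coprime p) : φ = 1 := by
  obtain ⟨W, hWch, hWi, hW⟩ := exists_test_subgroup (p := p) (by omega) hX hrk
  refine hW φ hcop fun x hx => ?_
  have hmem : ∀ (ψ : MulAut X) (x : X), x ∈ W → ψ x ∈ W := fun ψ x hx => by
    have h1 : x ∈ W.comap ψ.toMonoidHom := (hWch.fixed ψ).symm ▸ hx
    exact h1
  let res : MulAut X →* MulAut W :=
    { toFun := fun ψ =>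
        { toFun := fun x => ⟨ψ x, hmem ψ x x.2⟩
          invFun := fun x => ⟨ψ⁻¹ x, hmem ψ⁻¹ x x.2⟩
          left_inv := fun x => Subtype.ext (ψ.symm_apply_apply x)
          right_inv := fun x => Subtype.ext (ψ.apply_symm_apply x)
          map_mul' := fun x y => Subtype.ext (map_mul ψ (x : X) y) }
      map_one' := MulEquiv.ext fun x => rfl
      map_mul' := fun ψ χ => MulEquiv.ext fun x => rfl }
  have hdvd := orderOf_map_dvd res φ
  have h1 : res φ = 1 := by
    refine PGroup.eq_one_of_coprime (hX.to_subgroup W) hWi _ (hcop.coprime_dvd_left hdvd) fun i hi hi2 => ?_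
    refine Nat.Coprime.coprime_dvd_left hdvd ?_
    have h2 : (orderOf φ).Coprime 2 := (Nat.coprime_two_right.2 hodd)
    interval_cases i <;> subst hp3
    · exact h2
    · exact h2.pow_right 3
  exact congrArg Subtype.val (DFunLike.congr_fun h1 ⟨x, hx⟩)

/-- If `X = [X, A]` then nothing outside the Frattini subgroup is fixed modulo it by `A`. -/
theorem mem_frattini_of_fixed (hX : IsPGroup p X) {A : Type*} [Group A] [Finite A] (f : A →* MulAut X)
    (hcop : (Nat.card A).Coprime p)
    (hgen : Subgroup.closure {w : X | ∃ (a : A) (x : X), w = x⁻¹ * f a x} = ⊤) {x : X}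
    (hx : ∀ a, x⁻¹ * f a x ∈ frattini X) : x ∈ frattini X := by
  classical
  haveI := Fintype.ofFinite A
  set q := QuotientGroup.mk' (frattini X) with hq
  letI : CommGroup (X ⧸ frattini X) :=
    { (inferInstance : Group (X ⧸ frattini X)) with
      mul_comm := fun u v => by
        obtain ⟨u, rfl⟩ := QuotientGroup.mk'_surjective _ u
        obtain ⟨v, rfl⟩ := QuotientGroup.mk'_surjective _ v
        rw [← commutatorElement_eq_one_iff_mul_comm, ← map_commutatorElement]
        exact (QuotientGroup.eq_one_iff _).2 ((PSolvable.commutator_le_frattini hX).1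
          (commutator_def X ▸ Subgroup.commutator_mem_commutator (Subgroup.mem_top u) (Subgroup.mem_top v))) }
  let μ : X →* X ⧸ frattini X := MonoidHom.mk' (fun u => ∏ a : A, q (f a u)) fun u v => by
    simp only [map_mul, Finset.prod_mul_distrib]
  have hμ : μ = 1 := by
    refine MonoidHom.eq_of_eqOn_top ?_
    rw [← hgen]
    refine MonoidHom.eqOn_closure ?_
    rintro _ ⟨b, v, rfl⟩
    show ∏ a : A, q (f a (v⁻¹ * f b v)) = 1
    simp only [map_mul, map_inv, ← MulAut.mul_apply, Finset.prod_mul_distrib, Finset.prod_inv_distrib]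
    rw [inv_mul_eq_one]
    exact (Equiv.prod_comp (Equiv.mulRight b) fun a => q (f a v)).symm.trans (by simp)
  have h1 : q x ^ Nat.card A = 1 := by
    have h2 := DFunLike.congr_fun hμ x
    rw [MonoidHom.one_apply] at h2
    rw [← h2, Nat.card_eq_fintype_card, ← Finset.card_univ]
    refine (Finset.prod_eq_pow_card fun a _ => ?_).symm
    exact (QuotientGroup.eq.2 (hx a)).symm
  have h3 : q x ^ p = 1 := by
    rw [← map_pow]
    exact (QuotientGroup.eq_one_iff _).2 ((PSolvable.commutator_le_frattini hX).2 x)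
  have h4 := Nat.dvd_gcd (orderOf_dvd_of_pow_eq_one h1) (orderOf_dvd_of_pow_eq_one h3)
  rw [hcop, Nat.dvd_one, orderOf_eq_one_iff] at h4
  exact (QuotientGroup.eq_one_iff _).1 h4

open CfsgLib.RankTwoShape in
/-- The non-metacyclic case of BG 4.17 for `p > 3`. -/
theorem central_product (hp3 : 3 < p) (hX : IsPGroup p X) (hrk : Cfsg.PRankLE p 2 X) {R : Subgroup X}
    {z : X} (h : IsShape p R z) {A : Type*} [Group A] [Finite A] (f : A →* MulAut X)
    (hcop : (Nat.card A).Coprime p) (hodd : Odd (Nat.card A))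
    (hgen : Subgroup.closure {w : X | ∃ (a : A) (x : X), w = x⁻¹ * f a x} = ⊤) :
    R ⊔ Subgroup.centralizer (R : Set X) = ⊤ ∧ IsCyclic (Subgroup.centralizer (R : Set X)) ∧
      Subgroup.closure {c : X | c ∈ Subgroup.centralizer (R : Set X) ∧ c ^ p = 1} = Subgroup.zpowers z := by
  classical
  have hpp := hp.out
  haveI := h.normal
  have hexp : ∀ r ∈ R, r ^ p = 1 := fun r hr => (h.mem r).1 hr
  obtain ⟨z', K, hd⟩ := RankTwoNormal.exists_data hX (by omega) hrk R h.card hexp
  have hzz : Subgroup.zpowers z' = Subgroup.zpowers z := by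
    refine le_antisymm (Subgroup.zpowers_le.2 (h.center z' hd.z_mem fun y _ => (hd.z_central y).eq))
      (Subgroup.zpowers_le.2 (hd.center z h.z_mem fun y _ => h.z_central y))
  have hline : Subgroup.closure {c : X | c ∈ Subgroup.centralizer (R : Set X) ∧ c ^ p = 1} =
      Subgroup.zpowers z := by
    refine le_antisymm ((Subgroup.closure_le _).2 fun c hc => hzz ▸ hd.line c hc.1 hc.2)
      (Subgroup.zpowers_le.2 (Subgroup.subset_closure ⟨?_, hexp z h.z_mem⟩))
    exact Subgroup.mem_centralizer_iff.2 fun r _ => (h.z_central r).eq.symm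
  refine ⟨hd.sup_eq.trans ?_, hd.cyclic, hline⟩
  by_contra hK
  obtain ⟨g, hg⟩ := h.cyclic_quotient hp3 hX
  set Z := Subgroup.zpowers z with hZ
  haveI hZn : Z.Normal := ⟨fun n hn x => by
    rw [← (h.zpowers_commute hn x).eq, mul_inv_cancel_right]; exact hn⟩
  set q := QuotientGroup.mk' Z with hq
  have hq1 : ∀ u, q u = 1 ↔ u ∈ Z := fun u => QuotientGroup.eq_one_iff u
  have hqR : ∀ u ∈ R, ∀ v ∈ R, Commute (q u) (q v) := fun u hu v hv => by
    rw [← commutatorElement_eq_one_iff_commute, ← map_commutatorElement, hq1, commutatorElement_def]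
    exact h.comm u hu v hv
  -- an element moved by the generator
  obtain ⟨x, hx, hmove⟩ : ∃ x ∈ R, g * x * g⁻¹ * x⁻¹ ∉ Z := by
    by_contra hall
    push Not at hall
    refine hK (eq_top_iff.2 fun u _ => ?_)
    obtain ⟨k, hk⟩ := hg u
    have hgK : g ∈ K := (hd.mem_K g).2 fun x hx => hzz.symm ▸ (commutatorElement_def g x ▸ hall x hx)
    have := K.mul_mem (hd.R_le hk) (K.zpow_mem hgK k)
    rwa [inv_mul_cancel_right] at this
  set d := x⁻¹ * (g * x * g⁻¹) with hddef
  have hdR : d ∈ R := R.mul_mem (R.inv_mem hx) (h.normal.conj_mem x hx g)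
  have hdZ : d ∉ Z := fun e => hmove (by
    rw [show g * x * g⁻¹ * x⁻¹ = x * d * x⁻¹ by rw [hddef]; group]
    exact hZn.conj_mem d e x)
  -- the line of elements fixed modulo the centre
  have hconjd : q g * q d * (q g)⁻¹ = q d := by
    have h1 := (hq1 _).2 (h.two_step g x hx)
    rw [← hddef, map_mul, map_inv, inv_mul_eq_one, map_mul, map_mul, map_inv] at h1
    exact h1.symm
  let L : Subgroup X := R ⊓ (Subgroup.centralizer {q g}).comap q
  have hLmem : ∀ v, v ∈ L ↔ v ∈ R ∧ Commute (q g) (q v) := fun v => by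
    simp only [L, Subgroup.mem_inf, Subgroup.mem_comap, Subgroup.mem_centralizer_singleton_iff]
    exact and_congr_right' ⟨fun e => e.symm, fun e => e.symm⟩
  have hLinv : ∀ (τ : MulAut X) (v : X), v ∈ L → τ v ∈ L := by
    intro τ v hv
    obtain ⟨hvR, hvg⟩ := (hLmem v).1 hv
    have hτR : ∀ u ∈ R, τ u ∈ R := fun u hu => (h.mem _).2 (by rw [← map_pow, (h.mem u).1 hu, map_one])
    have hτZ : ∀ u ∈ Z, τ u ∈ Z := fun u hu => h.center _ (hτR u (h.zpowers_commute hu v |> fun _ =>
      (Subgroup.zpowers_le.2 h.z_mem) hu)) fun y hy => by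
        have hy' : τ.symm y ∈ R := (h.mem _).2 (by rw [← map_pow, (h.mem y).1 hy, map_one])
        have := congrArg τ (h.zpowers_commute hu (τ.symm y)).eq
        rw [map_mul, map_mul, τ.apply_symm_apply] at this
        exact this
    refine (hLmem _).2 ⟨hτR v hvR, ?_⟩
    have hall : ∀ u : X, Commute (q u) (q v) := by
      intro u
      obtain ⟨k, hk⟩ := hg u
      have hu : u = u * (g ^ k)⁻¹ * g ^ k := by group
      rw [hu, map_mul, map_zpow]
      exact (hqR _ hk v hvR).mul_left (hvg.zpow_left k)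
    have h1 := hall (τ.symm g)
    rw [← commutatorElement_eq_one_iff_commute, ← map_commutatorElement, hq1] at h1 ⊢
    have h2 := hτZ _ h1
    rwa [map_commutatorElement, τ.apply_symm_apply] at h2
  have hdL : d ∈ L := (hLmem d).2 ⟨hdR, mul_inv_eq_iff_eq_mul.1 hconjd⟩
  have hxL : x ∉ L := fun e => hdZ ((hq1 d).1 (by
    rw [hddef, map_mul, map_mul, map_mul, map_inv, map_inv, ((hLmem x).1 e).2.eq, mul_inv_cancel_right,
      inv_mul_cancel]))
  have hxd : ¬ Commute x d := by
    intro hc
    obtain ⟨U, -, -, hUab, hUexp, hUc, hUm⟩ :=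
      RankTwoNormal.pair_data hX hrk (h.z_central d) h.orderOf_z (hexp d hdR) hdZ
    have hxU := RankTwoNormal.mem_of_centralizes hrk hUab hUexp hUc (hexp x hx) fun w hw => by
      obtain ⟨i, j, rfl⟩ := hUm w hw
      exact ((h.z_central x).symm.zpow_right i).mul_right (hc.zpow_right j)
    obtain ⟨i, j, hij⟩ := hUm x hxU
    refine hxL ?_
    rw [hij]
    exact L.mul_mem (L.zpow_mem ((hLmem z).2 ⟨h.z_mem, ((h.z_central g).symm.map q)⟩) i) (L.zpow_mem hdL j)
  have hgenR := hd.gen x hx d hdR hxd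
  -- coordinates on `R / Z`
  have hcoord : ∀ u ∈ R, ∃ i j : ℤ, q u = q x ^ i * q d ^ j := by
    intro u hu
    rw [← hgenR] at hu
    have hc := hqR x hx d hdR
    induction hu using Subgroup.closure_induction with
    | mem u hu =>
      rcases hu with rfl | rfl
      · exact ⟨1, 0, by simp⟩
      · exact ⟨0, 1, by simp⟩
    | one => exact ⟨0, 0, by simp⟩
    | mul u v _ _ hu hv =>
      obtain ⟨i, j, h1⟩ := hu
      obtain ⟨i', j', h2⟩ := hv
      refine ⟨i + i', j + j', ?_⟩
      rw [map_mul, h1, h2, zpow_add, zpow_add, mul_assoc, ← mul_assoc (q d ^ j),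
        (hc.symm.zpow_zpow j i').eq]
      simp only [mul_assoc]
    | inv u _ hu =>
      obtain ⟨i, j, h1⟩ := hu
      refine ⟨-i, -j, ?_⟩
      rw [map_inv, h1, mul_inv_rev, (hc.symm.zpow_zpow j i).inv_inv.eq, zpow_neg, zpow_neg]
  have hqxp : q x ^ p = 1 := by rw [← map_pow, hexp x hx, map_one]
  -- every operator fixes `x` modulo `L`
  have hfix : ∀ a : A, x⁻¹ * f a x ∈ L := by
    intro a
    set τ := f a with hτ
    have hτR : ∀ u ∈ R, τ u ∈ R := fun u hu => (h.mem _).2 (by rw [← map_pow, (h.mem u).1 hu, map_one])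
    obtain ⟨i, j, hij⟩ := hcoord _ (hτR x hx)
    set β := (i % (p : ℤ)).toNat with hβ
    have hβi : q x ^ i = q x ^ β := by
      rw [← zpow_natCast (q x) β, hβ, Int.toNat_of_nonneg (Int.emod_nonneg _ (by exact_mod_cast hpp.ne_zero)),
        zpow_eq_zpow_emod' i hqxp]
    rw [hβi] at hij
    have hβ0 : ¬ p ∣ β := by
      intro hd'
      obtain ⟨c, hc⟩ := hd'
      rw [hc, pow_mul, hqxp, one_pow, one_mul] at hij
      refine hxL ?_
      have h1 : τ x ∈ L := by
        have h2 : (d ^ j)⁻¹ * τ x ∈ Z := by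
          rw [← hq1, map_mul, map_inv, map_zpow, hij, inv_mul_cancel]
        have := L.mul_mem (L.zpow_mem hdL j) (show (d ^ j)⁻¹ * τ x ∈ L from (hLmem _).2
          ⟨(Subgroup.zpowers_le.2 h.z_mem) h2, by rw [(hq1 _).2 h2]; exact Commute.one_right _⟩)
        rwa [mul_inv_cancel_left] at this
      have := hLinv τ⁻¹ _ h1
      rwa [MulAut.inv_apply_self] at this
    -- shift by a power of `g` to make `x` an eigenvector
    have hgx : ∀ k : ℤ, q g ^ k * q x * (q g ^ k)⁻¹ = q x * q d ^ k := by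
      intro k
      have h1 : q g * q x * (q g)⁻¹ = q x * q d := by
        rw [hddef, map_mul, map_mul, map_mul, map_inv, map_inv, mul_inv_cancel_left]
      induction k using Int.induction_on with
      | zero => simp
      | succ k ih =>
        calc q g ^ ((k : ℤ) + 1) * q x * (q g ^ ((k : ℤ) + 1))⁻¹
            = q g * (q g ^ (k : ℤ) * q x * (q g ^ (k : ℤ))⁻¹) * (q g)⁻¹ := by group
          _ = (q g * q x * (q g)⁻¹) * (q g * q d * (q g)⁻¹) ^ (k : ℤ) := by rw [ih, conj_zpow]; group
          _ = q x * q d ^ ((k : ℤ) + 1) := by rw [h1, hconjd, mul_assoc, add_comm, zpow_one_add]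
      | pred k ih =>
        have h1' : (q g)⁻¹ * q x * q g = q x * (q d)⁻¹ := by
          have h2 : (q g)⁻¹ * q d * q g = q d := by
            conv_lhs => rw [← hconjd]
            group
          calc (q g)⁻¹ * q x * q g = (q g)⁻¹ * (q g * q x * (q g)⁻¹ * (q d)⁻¹) * q g := by
                rw [h1, mul_inv_cancel_right]
            _ = q x * ((q g)⁻¹ * q d * q g)⁻¹ := by group
            _ = q x * (q d)⁻¹ := by rw [h2]
        calc q g ^ (-(k : ℤ) - 1) * q x * (q g ^ (-(k : ℤ) - 1))⁻¹
            = (q g)⁻¹ * (q g ^ (-(k : ℤ)) * q x * (q g ^ (-(k : ℤ)))⁻¹) * q g := by group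
          _ = ((q g)⁻¹ * q x * q g) * ((q g)⁻¹ * q d * q g) ^ (-(k : ℤ)) := by
              rw [ih, show ((q g)⁻¹ * q d * q g) ^ (-(k : ℤ)) = (q g)⁻¹ * q d ^ (-(k : ℤ)) * q g by
                have := conj_zpow (a := (q g)⁻¹) (b := q d) (i := -(k : ℤ))
                rwa [inv_inv] at this]
              group
          _ = q x * q d ^ (-(k : ℤ) - 1) := by
              have h2 : (q g)⁻¹ * q d * q g = q d := by
                conv_lhs => rw [← hconjd]
                group
              rw [h1', h2, mul_assoc, show -(k : ℤ) - 1 = -1 + -(k : ℤ) by ring, zpow_add, zpow_neg_one]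
    obtain ⟨s, t, hst⟩ := (((Nat.prime_iff_prime_int.1 hpp).irreducible.coprime_iff_not_dvd).2
      (fun e => hβ0 (Int.natCast_dvd_natCast.1 e)) : IsCoprime (p : ℤ) (β : ℤ))
    set τ' := MulAut.conj (g ^ (-(j * t))) * τ with hτ'
    have hτ'x : (x ^ β)⁻¹ * τ' x ∈ Z := by
      rw [← hq1, hτ', MulAut.mul_apply, MulAut.conj_apply, map_mul, map_inv, map_pow, map_mul, map_mul,
        map_inv, map_zpow, hij, inv_mul_eq_one,
        show q g ^ (-(j * t)) * (q x ^ β * q d ^ j) * (q g ^ (-(j * t)))⁻¹ =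
          (q g ^ (-(j * t)) * q x * (q g ^ (-(j * t)))⁻¹) ^ β *
            (q g ^ (-(j * t)) * q d ^ j * (q g ^ (-(j * t)))⁻¹) by rw [conj_pow]; group,
        hgx, ((hqR x hx d hdR).zpow_right _).mul_pow,
        (((show Commute (q g) (q d) from mul_inv_eq_iff_eq_mul.1 hconjd).zpow_zpow _ j)).eq,
        mul_inv_cancel_right, mul_assoc, ← zpow_natCast (q d ^ _), ← zpow_mul, ← zpow_add,
        show -(j * t) * (β : ℤ) + j = (p : ℤ) * (s * j) by linear_combination (-j) * hst,
        zpow_mul, zpow_natCast, show q d ^ p = 1 by rw [← map_pow, hexp d hdR, map_one], one_zpow, mul_one]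
    have hβsq : (p : ℤ) ∣ (β : ℤ) * β - 1 := by
      by_contra hns
      exact h.not_twisted hp3 hX hg hx hmove τ' hτ'x hns
    -- odd order forces `β = 1`
    have hβ1 : (β : ZMod p) = 1 := by
      have hsq : (β : ZMod p) ^ 2 = 1 := by
        have := (ZMod.intCast_zmod_eq_zero_iff_dvd _ p).2 hβsq
        push_cast at this
        linear_combination this
      have hpow : ∀ k : ℕ, (x ^ β ^ k)⁻¹ * (τ ^ k) x ∈ L := by
        intro k
        induction k with
        | zero =>
          rw [pow_zero, pow_one, pow_zero, MulAut.one_apply, inv_mul_cancel]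
          exact L.one_mem
        | succ k ih =>
          have h1 : (x ^ β)⁻¹ * τ x ∈ L := by
            refine (hLmem _).2 ⟨R.mul_mem (R.inv_mem (R.pow_mem hx β)) (hτR x hx), ?_⟩
            rw [map_mul, map_inv, map_pow, hij, inv_mul_cancel_left]
            exact ((hLmem d).1 hdL).2.zpow_right j
          have h2 := hLinv τ _ ih
          rw [map_mul, map_inv, map_pow] at h2
          have hLn : ∀ u ∈ R, ∀ w ∈ L, u * w * u⁻¹ ∈ L := fun u hu w hw => by
            refine (hLmem _).2 ⟨R.mul_mem (R.mul_mem hu ((hLmem w).1 hw).1) (R.inv_mem hu), ?_⟩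
            rw [map_mul, map_mul, map_inv, (hqR u hu w ((hLmem w).1 hw).1).eq, mul_inv_cancel_right]
            exact ((hLmem w).1 hw).2
          -- powers of `x ^ β` and `τ x` agree modulo `L`
          have h3 : ∀ m : ℕ, (x ^ (β * m))⁻¹ * τ x ^ m ∈ L := by
            intro m
            induction m with
            | zero => simp
            | succ m ihm =>
              rw [show (x ^ (β * (m + 1)))⁻¹ * τ x ^ (m + 1) =
                ((x ^ β)⁻¹ * ((x ^ (β * m))⁻¹ * τ x ^ m) * (x ^ β)⁻¹⁻¹) * ((x ^ β)⁻¹ * τ x) by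
                rw [mul_add, mul_one, pow_add, pow_succ, pow_mul]; group]
              exact L.mul_mem (hLn _ (R.inv_mem (R.pow_mem hx β)) _ ihm) h1
          have h4 := L.mul_mem (h3 (β ^ k)) h2
          rw [show β * β ^ k = β ^ (k + 1) by rw [pow_succ']] at h4
          rw [show (x ^ β ^ (k + 1))⁻¹ * (τ ^ (k + 1)) x =
            (x ^ β ^ (k + 1))⁻¹ * τ x ^ β ^ k * ((τ x ^ β ^ k)⁻¹ * τ ((τ ^ k) x)) by
            rw [pow_succ' τ, MulAut.mul_apply]; group]
          exact h4
      have h5 := hpow (orderOf τ)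
      rw [pow_orderOf_eq_one, MulAut.one_apply] at h5
      have h6 : (β : ZMod p) ^ orderOf τ = 1 := by
        by_contra hne
        have hnd : ¬ (p : ℤ) ∣ (1 - (β ^ orderOf τ : ℕ) : ℤ) := by
          intro hd'
          apply hne
          have := (ZMod.intCast_zmod_eq_zero_iff_dvd _ p).2 hd'
          push_cast at this
          exact (sub_eq_zero.1 this).symm
        obtain ⟨s', t', hst'⟩ := (((Nat.prime_iff_prime_int.1 hpp).irreducible.coprime_iff_not_dvd).2 hnd :
          IsCoprime (p : ℤ) (1 - (β ^ orderOf τ : ℕ) : ℤ))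
        refine hxL ?_
        have h7 : x ^ (1 - (β ^ orderOf τ : ℕ) : ℤ) ∈ L := by
          rw [show (1 - (β ^ orderOf τ : ℕ) : ℤ) = -((β ^ orderOf τ : ℕ) : ℤ) + 1 by ring, zpow_add,
            zpow_neg, zpow_natCast, zpow_one]
          exact h5
        have h8 : x = (x ^ (1 - (β ^ orderOf τ : ℕ) : ℤ)) ^ t' := by
          rw [← zpow_mul, show (1 - (β ^ orderOf τ : ℕ) : ℤ) * t' = 1 - (p : ℤ) * s' by
            linear_combination hst', zpow_sub, zpow_one, zpow_mul, zpow_natCast, hexp x hx, one_zpow,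
            inv_one, mul_one]
        rw [h8]
        exact L.zpow_mem h7 t'
      obtain ⟨m, hm⟩ : Odd (orderOf τ) :=
        Odd.of_dvd_nat hodd ((orderOf_map_dvd f a).trans (orderOf_dvd_natCard a))
      rwa [hm, pow_add, pow_mul, hsq, one_pow, one_mul, pow_one] at h6
    have hxβ : q x ^ β = q x := by
      conv_rhs => rw [← pow_one (q x)]
      rw [pow_eq_pow_iff_modEq]
      refine Nat.ModEq.of_dvd (orderOf_dvd_of_pow_eq_one hqxp) ?_
      exact (ZMod.natCast_eq_natCast_iff _ _ _).1 (by rw [hβ1, Nat.cast_one])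
    refine (hLmem _).2 ⟨R.mul_mem (R.inv_mem hx) (hτR x hx), ?_⟩
    rw [map_mul, map_inv, hij, hxβ, inv_mul_cancel_left]
    exact ((hLmem d).1 hdL).2.zpow_right j
  have hLΦ : L ≤ frattini X := by
    intro u hu
    have hdΦ : d ∈ frattini X := (PSolvable.commutator_le_frattini hX).1 (by
      rw [commutator_def, hddef, show x⁻¹ * (g * x * g⁻¹) = ⁅x⁻¹, g⁆ by rw [commutatorElement_def]; group]
      exact Subgroup.commutator_mem_commutator (Subgroup.mem_top _) (Subgroup.mem_top _))
    have hZΦ : Z ≤ frattini X := by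
      have heZ : ⁅x, d⁆ ∈ Z := commutatorElement_def x d ▸ h.comm x hx d hdR
      have heq : Subgroup.zpowers ⁅x, d⁆ = Z := by
        refine Subgroup.eq_of_le_of_card_ge (Subgroup.zpowers_le.2 heZ) ?_
        rw [hZ, Nat.card_zpowers, Nat.card_zpowers, h.orderOf_z,
          orderOf_eq_prime (hexp _ ((Subgroup.zpowers_le.2 h.z_mem) heZ))
            fun e => hxd (commutatorElement_eq_one_iff_commute.1 e)]
      rw [← heq, Subgroup.zpowers_le]
      exact (PSolvable.commutator_le_frattini hX).1 (commutator_def X ▸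
        Subgroup.commutator_mem_commutator (Subgroup.mem_top _) (Subgroup.mem_top _))
    obtain ⟨i, j, hij⟩ := hcoord u ((hLmem u).1 hu).1
    by_cases hpi : (p : ℤ) ∣ i
    · obtain ⟨c, rfl⟩ := hpi
      rw [zpow_mul, zpow_natCast, hqxp, one_zpow, one_mul] at hij
      have h2 : (d ^ j)⁻¹ * u ∈ Z := by rw [← hq1, map_mul, map_inv, map_zpow, hij, inv_mul_cancel]
      have := mul_mem (zpow_mem hdΦ j) (hZΦ h2)
      rwa [mul_inv_cancel_left] at this
    · exfalso
      obtain ⟨s, t, hst⟩ := (((Nat.prime_iff_prime_int.1 hpp).irreducible.coprime_iff_not_dvd).2 hpi :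
        IsCoprime (p : ℤ) i)
      refine hxL ((hLmem x).2 ⟨hx, ?_⟩)
      have h1 : q x ^ i = q u * (q d ^ j)⁻¹ := by rw [hij, mul_inv_cancel_right]
      have h2 : q x = (q x ^ i) ^ t := by
        rw [← zpow_mul, show i * t = 1 - (p : ℤ) * s by linear_combination hst, zpow_sub, zpow_one,
          zpow_mul, zpow_natCast, hqxp, one_zpow, inv_one, mul_one]
      rw [h2, h1]
      exact (((hLmem u).1 hu).2.mul_right (((hLmem d).1 hdL).2.zpow_right j).inv_right).zpow_right t
  have hxΦ := mem_frattini_of_fixed hX f hcop hgen fun a => hLΦ (hfix a)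
  -- then `g` alone generates
  refine hxL ((hLmem x).2 ⟨hx, ?_⟩)
  have htop : Subgroup.zpowers g = ⊤ := by
    refine frattini_nongenerating (eq_top_iff.2 fun u _ => ?_)
    obtain ⟨k, hk⟩ := hg u
    have hR : R ≤ Subgroup.zpowers g ⊔ frattini X := by
      rw [← hgenR, Subgroup.closure_le]
      rintro _ (rfl | rfl)
      · exact Subgroup.mem_sup_right hxΦ
      · exact Subgroup.mem_sup_right (hLΦ hdL)
    have := mul_mem (hR hk) (Subgroup.mem_sup_left (T := frattini X) (zpow_mem (Subgroup.mem_zpowers g) k))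
    rwa [inv_mul_cancel_right] at this
  obtain ⟨k, hk⟩ := Subgroup.mem_zpowers_iff.1 (htop.ge (Subgroup.mem_top x))
  rw [← hk, map_zpow]
  exact (Commute.refl _).zpow_right k

end CfsgLib.BG
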