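import Mathlib
import Cfsg.Prelude.Def_Solvable

/-!
A finite group whose derived subgroup consists of `p`-elements is `O_p` extended by an abelian `p'`-group.
-/

set_option autoImplicit false
set_option linter.style.haveILetI false

namespace CfsgLib.BG

theorem structure_of_derived_pGroup {A : Type*} [Group A] [Finite A] {p : ℕ} [hp : Fact p.Prime]
    (h : ∀ a ∈ commutator A, ∃ k : ℕ, a ^ p ^ k = 1) :
    commutator A ≤ Cfsg.pCore p A ∧ ((Cfsg.pCore p A).index).Coprime p := by
  have hC : IsPGroup p (commutator A) := fun a => by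
    obtain ⟨k, hk⟩ := h a a.2
    exact ⟨k, Subtype.ext hk⟩
  let P : Sylow p A := default
  set S := (P : Subgroup A) ⊔ commutator A with hS
  have hSn : S.Normal := Subgroup.Normal.of_commutator_le A le_sup_right
  have hSp : IsPGroup p S := P.2.to_sup_of_normal_right hC
  have hle : S ≤ Cfsg.pCore p A := le_sSup ⟨hSn, hSp⟩
  refine ⟨le_sup_right.trans hle, ?_⟩
  refine Nat.Coprime.coprime_dvd_left (Subgroup.index_dvd_of_le (le_sup_left.trans hle)) ?_
  exact ((hp.out.coprime_iff_not_dvd).2 P.not_dvd_index).symm

end CfsgLib.BG
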