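import Mathlib
import Cfsg.Agent.Lib.BG.RankTwoOperators
import Cfsg.Agent.Lib.Critical.Basic
import Cfsg.Agent.S1453

/-!
Narrow `p`-groups of rank at least three: the automorphism group is built from factors of order `p`
(BG 5.5).
-/

set_option autoImplicit false
set_option linter.style.haveILetI false

open scoped commutatorElement

namespace CfsgLib.BG

universe u

variable {p : ℕ} [hp : Fact p.Prime]

theorem mem_map_char {T : Type u} [Group T] {K : Subgroup T} (hK : K.Characteristic) (φ : MulAut T)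
    {x : T} (hx : x ∈ K) : φ x ∈ K := by
  have h : x ∈ K.comap φ.toMonoidHom := (hK.fixed φ).symm ▸ hx
  exact h

/-- Restricting an automorphism to a characteristic subgroup. -/
def restrictChar {T : Type u} [Group T] (K : Subgroup T) (hK : K.Characteristic) : MulAut T →* MulAut K where
  toFun ψ :=
    { toFun := fun x => ⟨ψ x, mem_map_char hK ψ x.2⟩
      invFun := fun x => ⟨ψ⁻¹ x, mem_map_char hK ψ⁻¹ x.2⟩
      left_inv := fun x => Subtype.ext (ψ.symm_apply_apply x)
      right_inv := fun x => Subtype.ext (ψ.apply_symm_apply x)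
      map_mul' := fun x y => Subtype.ext (map_mul ψ (x : T) y) }
  map_one' := MulEquiv.ext fun _ => rfl
  map_mul' _ _ := MulEquiv.ext fun _ => rfl

/-- A coprime automorphism trivial on a normal subgroup and on the factor above it is trivial there. -/
theorem fixed_of_diff_fixed {T : Type u} [Group T] [Finite T] (hT : IsPGroup p T) {φ : MulAut T}
    (hφ : (orderOf φ).Coprime p) {x : T} (h : φ (x⁻¹ * φ x) = x⁻¹ * φ x) : φ x = x := by
  set c := x⁻¹ * φ x with hc
  have hn : ∀ n : ℕ, (φ ^ n) x = x * c ^ n := by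
    intro n
    induction n with
    | zero => simp
    | succ n ih =>
      rw [pow_succ', MulAut.mul_apply, ih, map_mul, map_pow, h, pow_succ']
      rw [← mul_assoc x, show x * c = φ x by rw [hc, mul_inv_cancel_left]]
  have h1 := hn (orderOf φ)
  rw [pow_orderOf_eq_one, MulAut.one_apply, left_eq_mul] at h1
  obtain ⟨j, hj⟩ := hT c
  have hc1 : c = 1 := orderOf_eq_one_iff.mp (Nat.eq_one_of_dvd_coprimes (hφ.pow_right j)
    (orderOf_dvd_of_pow_eq_one h1) (orderOf_dvd_of_pow_eq_one hj))
  rw [hc, inv_mul_eq_one] at hc1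
  exact hc1.symm

/-- A characteristic subgroup of exponent `p` on which `p'`-automorphisms act faithfully. -/
theorem exists_exponent_test {T : Type u} [Group T] [Finite T] (hp2 : p ≠ 2) (hT : IsPGroup p T) :
    ∃ K : Subgroup T, K.Characteristic ∧ (∀ x ∈ K, x ^ p = 1) ∧
      ∀ φ : MulAut T, (orderOf φ).Coprime p → (∀ x ∈ K, φ x = x) → φ = 1 := by
  obtain ⟨H, hHc, -, hHcomm, hHC⟩ := Critical.exists_isCrit hT
  haveI := hHc
  have hcen : ∀ a ∈ H, ∀ b : T, ∀ g ∈ H, Commute ⁅a, b⁆ g := fun a ha b g hg =>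
    (Subgroup.mem_centralizer_iff.1 (hHcomm (Subgroup.commutator_mem_commutator ha (Subgroup.mem_top b))).2 g hg).symm
  obtain ⟨r, hr⟩ : p ∣ p.choose 2 :=
    hp.out.dvd_choose_self two_ne_zero (lt_of_le_of_ne hp.out.two_le hp2.symm)
  let K : Subgroup T :=
    { carrier := {x | x ∈ H ∧ x ^ p = 1}
      one_mem' := ⟨H.one_mem, one_pow p⟩
      mul_mem' := by
        rintro a b ⟨ha, hap⟩ ⟨hb, hbp⟩
        refine ⟨H.mul_mem ha hb, ?_⟩
        have hcp : ⁅b, a⁆ ^ p = 1 := by
          have h1 : b * a * b⁻¹ = ⁅b, a⁆ * a := by rw [commutatorElement_def]; group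
          have h2 : b * a ^ p * b⁻¹ = ⁅b, a⁆ ^ p * a ^ p := by
            rw [← conj_pow, h1, (hcen b hb a a ha).mul_pow]
          rw [hap, mul_one, mul_inv_cancel, mul_one] at h2
          exact h2.symm
        rw [PSolvable.mul_pow_of_comm (hcen b hb a a ha) (hcen b hb a b hb), hr, pow_mul, hcp, one_pow,
          mul_one, hap, hbp, mul_one]
      inv_mem' := fun {a} ha => ⟨H.inv_mem ha.1, by rw [inv_pow, ha.2, inv_one]⟩ }
  refine ⟨K, ⟨fun φ => ?_⟩, fun x hx => hx.2, fun φ hφ hfix => ?_⟩
  · ext x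
    show φ x ∈ H ∧ φ x ^ p = 1 ↔ x ∈ H ∧ x ^ p = 1
    rw [← map_pow, EmbeddingLike.map_eq_one_iff]
    exact and_congr_left' ⟨fun h => by simpa using mem_map_char hHc φ⁻¹ h, fun h => mem_map_char hHc φ h⟩
  · refine Critical.mulAut_eq_one hT H hHC φ hφ fun x hx => ?_
    have h1 : restrictChar H hHc φ = 1 := by
      refine OddOmega.eq_one_of_fixes_omega hp2 (hT.to_subgroup H) _ (fun hd => hp.out.not_dvd_one
        (hφ ▸ Nat.dvd_gcd (hd.trans (orderOf_map_dvd _ φ)) dvd_rfl)) fun y hy => ?_
      exact Subtype.ext (hfix y ⟨y.2, by simpa using congrArg Subtype.val hy⟩)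
    exact congrArg Subtype.val (DFunLike.congr_fun h1 ⟨x, hx⟩)

/-- A narrow `p`-group of rank at least three has a family of characteristic sections of order at most
`p` on which `p'`-automorphisms act faithfully. -/
theorem exists_flag {R : Type u} [Group R] [Finite R] (hp2 : p ≠ 2) (hR : IsPGroup p R)
    (hn : Cfsg.IsNarrow p R) (hr : ¬ Cfsg.PRankLE p 2 R) :
    ∃ P : Set (Subgroup R × Subgroup R),
      (∀ q ∈ P, q.1.Characteristic ∧ q.2.Characteristic ∧ q.2 ≤ q.1 ∧ q.2.relIndex q.1 ≤ p) ∧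
      ∀ φ : MulAut R, (orderOf φ).Coprime p →
        (∀ q ∈ P, ∀ x ∈ q.1, x⁻¹ * φ x ∈ q.2) → φ = 1 := by
  classical
  have hpp := hp.out
  haveI := hR.isNilpotent
  obtain ⟨R0, R1, hR0, hR1c, hinf, hcomm, hsup⟩ := hn.resolve_left hr
  obtain ⟨⟨s, hs⟩, hso⟩ := exists_prime_orderOf_dvd_card' (G := R0) p (hR0 ▸ dvd_rfl)
  rw [Subgroup.orderOf_mk] at hso
  have hR0z : R0 = Subgroup.zpowers s := (Subgroup.eq_of_le_of_card_ge (Subgroup.zpowers_le.2 hs)
    (by rw [hR0, Nat.card_zpowers, hso])).symm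
  have hR1ne : R1 ≠ ⊥ := by
    intro hbot
    rw [hbot, sup_bot_eq] at hsup
    -- the centre would lie in `R0`, so `R0` is central
    have hZ : Subgroup.center R ≤ R0 := (Subgroup.center_le_centralizer _).trans hsup.ge
    rcases eq_or_ne R0 ⊤ with htop | htop
    · refine hr fun B _ _ => (Subgroup.card_le_card_group B).trans ?_
      rw [← Subgroup.card_top (G := R), ← htop, hR0]
      exact Nat.le_self_pow two_ne_zero p
    · haveI : Nontrivial R := ⟨⟨s, 1, fun e => hpp.one_lt.ne (by rw [← hso, e, orderOf_one])⟩⟩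
      haveI := hR.center_nontrivial
      have hZ' : Subgroup.center R = R0 := Subgroup.eq_of_le_of_card_ge hZ (by
        obtain ⟨j, hj0, hj⟩ := (hR.to_subgroup (Subgroup.center R)).nontrivial_iff_card.1 inferInstance
        rw [hj, hR0]
        exact Nat.le_self_pow hj0.ne' p)
      refine htop (hsup.trans (eq_top_iff.2 fun g _ => Subgroup.mem_centralizer_iff.2 fun a ha => ?_))
      exact (Subgroup.mem_center_iff.1 (hZ'.ge ha) g).symm
  obtain ⟨⟨r1', hr1'⟩, hr1o'⟩ : ∃ r : R1, orderOf r = p := by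
    haveI : Nontrivial R1 := (Subgroup.nontrivial_iff_ne_bot _).2 hR1ne
    obtain ⟨j, hj0, hj⟩ := (hR.to_subgroup R1).nontrivial_iff_card.1 inferInstance
    exact exists_prime_orderOf_dvd_card' p (hj ▸ dvd_pow_self p hj0.ne')
  rw [Subgroup.orderOf_mk] at hr1o'
  haveI := hR1c
  have hline : ∀ x ∈ R1, x ^ p = 1 → x ∈ Subgroup.zpowers r1' := by
    intro x hx hxp
    haveI := Fintype.ofFinite R1
    letI := IsCyclic.commGroup (α := R1)
    set S : Subgroup R1 := (powMonoidHom p : R1 →* R1).ker with hS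
    have hle : Nat.card S ≤ p := by
      refine le_trans (le_of_eq ?_) (IsCyclic.card_pow_eq_one_le (α := R1) hpp.pos)
      rw [Nat.card_eq_fintype_card, Fintype.card_subtype]
      congr 1
      exact Finset.filter_congr fun x _ => MonoidHom.mem_ker
    have hr1S : (⟨r1', hr1'⟩ : R1) ∈ S := MonoidHom.mem_ker.2 (Subtype.ext (by
      show r1' ^ p = 1
      rw [← hr1o', pow_orderOf_eq_one]))
    have heq : Subgroup.zpowers (⟨r1', hr1'⟩ : R1) = S := Subgroup.eq_of_le_of_card_ge
      (Subgroup.zpowers_le.2 hr1S) (by rwa [Nat.card_zpowers, Subgroup.orderOf_mk, hr1o'])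
    obtain ⟨i, hi⟩ := Subgroup.mem_zpowers_iff.1 (heq.ge (MonoidHom.mem_ker.2 (Subtype.ext hxp) :
      (⟨x, hx⟩ : R1) ∈ S))
    exact ⟨i, congrArg Subtype.val hi⟩
  have hsr : Commute s r1' := hcomm s hs r1' hr1'
  have hr1n : r1' ∉ Subgroup.zpowers s := fun h => by
    have h1 : r1' ∈ R0 ⊓ R1 := ⟨hR0z.ge h, hr1'⟩
    rw [hinf, Subgroup.mem_bot] at h1
    rw [h1, orderOf_one] at hr1o'
    exact hpp.one_lt.ne hr1o'
  -- `E` is the set of elements killed by `p` in the centralizer of `s`
  have hCs : Subgroup.centralizer ({s} : Set R) = Subgroup.centralizer (R0 : Set R) := by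
    ext g
    rw [Subgroup.mem_centralizer_singleton_iff, Subgroup.mem_centralizer_iff]
    constructor
    · intro h a ha
      obtain ⟨i, rfl⟩ := Subgroup.mem_zpowers_iff.1 (hR0z.le ha)
      exact ((show Commute s g from h.symm).zpow_left i).eq
    · exact fun h => (h s hs).symm
  set E := Subgroup.closure ({s, r1'} : Set R) with hE
  haveI hEc : IsMulCommutative E := Subgroup.isMulCommutative_closure (by
    rintro u (rfl | rfl) v (rfl | rfl) <;> first | rfl | exact hsr.eq | exact hsr.eq.symm)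
  have hEe : ∀ u ∈ E, u ^ p = 1 := by
    intro u hu
    induction hu using Subgroup.closure_induction with
    | mem u hu =>
      rcases hu with rfl | rfl
      · rw [← hso, pow_orderOf_eq_one]
      · rw [← hr1o', pow_orderOf_eq_one]
    | one => exact one_pow p
    | mul a b ha hb iha ihb =>
      rw [(show Commute a b from congrArg Subtype.val (mul_comm' (⟨a, ha⟩ : E) ⟨b, hb⟩)).mul_pow,
        iha, ihb, one_mul]
    | inv a _ iha => rw [inv_pow, iha, inv_one]
  have hkill : ∀ g, Commute g s → g ^ p = 1 → g ∈ E := by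
    intro g hg hgp
    have hgC : g ∈ R0 ⊔ R1 := by
      rw [hsup, ← hCs, Subgroup.mem_centralizer_singleton_iff]
      exact hg
    obtain ⟨a, ha, b, hb, rfl⟩ : ∃ a ∈ R0, ∃ b ∈ R1, a * b = g := by
      have hnorm : R1 ≤ Subgroup.normalizer (R0 : Set R) := fun b hb => Subgroup.mem_normalizer_iff.2 fun a => by
        constructor
        · intro ha
          rwa [← hcomm a ha b hb, mul_inv_cancel_right]
        · intro ha
          have h2 : b⁻¹ * (b * a * b⁻¹) * b = b * a * b⁻¹ := by
            rw [mul_assoc, hcomm _ ha b hb, inv_mul_cancel_left]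
          rwa [← h2, show b⁻¹ * (b * a * b⁻¹) * b = a by group] at ha
      have h1 := Subgroup.coe_mul_of_right_le_normalizer_left R0 R1 hnorm
      have h2 : g ∈ ((R0 ⊔ R1 : Subgroup R) : Set R) := hgC
      rw [h1] at h2
      exact Set.mem_mul.1 h2
    have hap : a ^ p = 1 := by
      obtain ⟨i, rfl⟩ := Subgroup.mem_zpowers_iff.1 (hR0z.le ha)
      rw [← zpow_natCast, ← zpow_mul, mul_comm, zpow_mul, zpow_natCast, ← hso, pow_orderOf_eq_one, one_zpow]
    rw [(show Commute a b from hcomm a ha b hb).mul_pow, hap, one_mul] at hgp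
    obtain ⟨i, hi⟩ := Subgroup.mem_zpowers_iff.1 (hline b hb hgp)
    refine E.mul_mem ?_ (hi ▸ E.zpow_mem (Subgroup.subset_closure (by simp)) i)
    exact (Subgroup.zpowers_le.2 (Subgroup.subset_closure (by simp) : s ∈ E)) (hR0z.le ha)
  have hE2 : Nat.card E = p ^ 2 := by
    obtain ⟨k, hk⟩ := IsPGroup.iff_card.1 (hR.to_subgroup E)
    have hlo : 2 ≤ k := by
      by_contra hk2
      have hle : Subgroup.zpowers s ≤ E := Subgroup.zpowers_le.2 (Subgroup.subset_closure (by simp))
      have h1 := Subgroup.eq_of_le_of_card_ge hle (by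
        rw [hk, Nat.card_zpowers, hso]
        exact (Nat.pow_le_pow_right hpp.pos (show k ≤ 1 by omega)).trans (pow_one p).le)
      exact hr1n (h1.ge (Subgroup.subset_closure (by simp)))
    have hup : Nat.card E ≤ p ^ 2 := by
      let f : Subgroup.zpowers s × Subgroup.zpowers r1' → E := fun w =>
        ⟨(w.1 : R) * (w.2 : R), E.mul_mem
          (Subgroup.zpowers_le.2 (Subgroup.subset_closure (by simp) : s ∈ E) w.1.2)
          (Subgroup.zpowers_le.2 (Subgroup.subset_closure (by simp) : r1' ∈ E) w.2.2)⟩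
      refine (Nat.card_le_card_of_surjective f ?_).trans ?_
      · rintro ⟨g, hg⟩
        have key : ∀ g ∈ E, ∃ i j : ℤ, g = s ^ i * r1' ^ j := by
          intro g hg
          induction hg using Subgroup.closure_induction with
          | mem g hg =>
            rcases hg with rfl | rfl
            · exact ⟨1, 0, by simp⟩
            · exact ⟨0, 1, by simp⟩
          | one => exact ⟨0, 0, by simp⟩
          | mul u v _ _ hu hv =>
            obtain ⟨i, j, rfl⟩ := hu
            obtain ⟨i', j', rfl⟩ := hv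
            refine ⟨i + i', j + j', ?_⟩
            rw [zpow_add, zpow_add, mul_assoc, ← mul_assoc (r1' ^ j), (hsr.symm.zpow_zpow j i').eq]
            simp only [mul_assoc]
          | inv u _ hu =>
            obtain ⟨i, j, rfl⟩ := hu
            exact ⟨-i, -j, by rw [mul_inv_rev, (hsr.symm.zpow_zpow j i).inv_inv.eq, zpow_neg, zpow_neg]⟩
        obtain ⟨i, j, rfl⟩ := key g hg
        exact ⟨(⟨_, ⟨i, rfl⟩⟩, ⟨_, ⟨j, rfl⟩⟩), rfl⟩
      · rw [Nat.card_prod, Nat.card_zpowers, Nat.card_zpowers, hso, hr1o', pow_two]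
    rw [hk] at hup ⊢
    rw [show k = 2 by
      have := (Nat.pow_le_pow_iff_right hpp.one_lt).1 hup
      omega]
  have hEmax : ∀ B : Subgroup R, Cfsg.IsElementaryAbelian p B → E ≤ B → B = E := fun B hB hEB =>
    le_antisymm (fun g hg => hkill g (congrArg Subtype.val (hB.1.is_comm.comm (⟨g, hg⟩ : B)
      ⟨s, hEB (Subgroup.subset_closure (by simp))⟩)) (hB.2 g hg)) hEB
  obtain ⟨hET, -, -, hTch, hTi⟩ := Cfsg.Agent.S1453.result p hp2 hR hr E ⟨hEc, hEe⟩ hE2 hEmax
  set T := Subgroup.centralizer ((Subgroup.closure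
    {x : R | x ∈ Subgroup.upperCentralSeries R 2 ∧ x ^ p = 1} : Subgroup R) : Set R) with hT
  haveI := hTch
  obtain ⟨K, hKch, hKe, hKf⟩ := exists_exponent_test hp2 (hR.to_subgroup T)
  haveI := hKch
  set L := K.map T.subtype with hL
  have hLch : L.Characteristic := ⟨fun φ => by
    ext x
    rw [Subgroup.mem_comap]
    have hkey : ∀ (ψ : MulAut R) (y : R), y ∈ L → ψ y ∈ L := by
      rintro ψ _ ⟨k, hk, rfl⟩
      exact ⟨restrictChar T hTch ψ k, mem_map_char hKch _ hk, rfl⟩
    refine ⟨fun h => ?_, fun h => hkey φ x h⟩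
    have h1 := hkey φ⁻¹ _ h
    simpa using h1⟩
  haveI := hLch
  haveI : (⊤ : Subgroup R).Characteristic := inferInstance
  let N : ℕ → Subgroup R := fun i => Nat.rec (motive := fun _ => Subgroup R) L (fun _ H => ⁅H, (⊤ : Subgroup R)⁆) i
  have hNs : ∀ i, N (i + 1) = ⁅N i, (⊤ : Subgroup R)⁆ := fun i => rfl
  have hNch : ∀ i, (N i).Characteristic := by
    intro i
    induction i with
    | zero => exact hLch
    | succ i ih =>
      rw [hNs]
      exact @Subgroup.commutator_characteristic R _ (N i) ⊤ ih inferInstance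
  have hNle : ∀ i, N (i + 1) ≤ N i := fun i => by
    haveI := hNch i
    rw [hNs]; exact Subgroup.commutator_le_left _ _
  have hNL : ∀ i, N i ≤ L := by
    intro i
    induction i with
    | zero => exact le_rfl
    | succ i ih => exact (hNle i).trans ih
  have hNlcs : ∀ i, N i ≤ (⊤ : Subgroup R).lowerCentralSeries i := by
    intro i
    induction i with
    | zero => exact le_top
    | succ i ih => rw [hNs, Subgroup.lowerCentralSeries_succ]; exact Subgroup.commutator_mono ih le_rfl
  obtain ⟨c, hc⟩ := (Subgroup.isNilpotent_iff_lowerCentralSeries (⊤ : Subgroup R)).mp inferInstance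
  have hEs : s ∈ E := Subgroup.subset_closure (by simp)
  have hET' : Nat.card ↥(E ⊓ T) ≤ p := by
    obtain ⟨k, hk⟩ := IsPGroup.iff_card.1 (hR.to_subgroup (E ⊓ T))
    rw [hk]
    refine (Nat.pow_le_pow_right hpp.pos (show k ≤ 1 from ?_)).trans (pow_one p).le
    by_contra hk2
    exact hET ((Subgroup.eq_of_le_of_card_ge (inf_le_left : E ⊓ T ≤ E) (by
      rw [hE2, hk]; exact Nat.pow_le_pow_right hpp.pos (by omega))).ge.trans inf_le_right)
  -- each factor has order at most `p`
  have hfac : ∀ i, (N (i + 1)).relIndex (N i) ≤ p := by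
    intro i
    set D := N i ⊓ Subgroup.centralizer ({s} : Set R) with hD
    have hDc : Nat.card D ≤ p := by
      refine (Subgroup.card_le_of_le (show D ≤ E ⊓ T from fun g hg => ?_)).trans hET'
      obtain ⟨k, hk, rfl⟩ := hNL i hg.1
      exact ⟨hkill _ (Subgroup.mem_centralizer_singleton_iff.1 hg.2)
        (by rw [← map_pow, hKe k hk, map_one]), k.2⟩
    have hmap : D.relIndex (N i) ≤ Nat.card (N (i + 1)) := by
      refine Nat.card_le_card_of_injective (α := ↥(N i) ⧸ D.subgroupOf (N i))
        (Quotient.lift (fun k => (⟨⁅(k : R), s⁆, by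
          rw [hNs]; exact Subgroup.commutator_mem_commutator k.2 (Subgroup.mem_top s)⟩ : N (i + 1))) ?_) ?_
      · intro (a : ↥(N i)) (b : ↥(N i)) hab
        have h0 : a⁻¹ * b ∈ D.subgroupOf (N i) := QuotientGroup.leftRel_apply.1 hab
        have h1 : ((a : R)⁻¹ * b) ∈ D := h0
        have h2 : ((a : R)⁻¹ * b) * s = s * ((a : R)⁻¹ * b) := Subgroup.mem_centralizer_singleton_iff.1 h1.2
        refine Subtype.ext ?_
        show ⁅(a : R), s⁆ = ⁅(b : R), s⁆
        rw [commutatorElement_def, commutatorElement_def]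
        calc (a : R) * s * (a : R)⁻¹ * s⁻¹ = a * (s * ((a : R)⁻¹ * b)) * (b : R)⁻¹ * s⁻¹ := by group
          _ = b * s * (b : R)⁻¹ * s⁻¹ := by rw [← h2]; group
      · intro a b
        induction a using Quotient.inductionOn with
        | h a =>
          induction b using Quotient.inductionOn with
          | h b =>
            intro hab
            refine Quotient.sound (QuotientGroup.leftRel_apply.2 ⟨(N i).mul_mem ((N i).inv_mem a.2) b.2,
              Subgroup.mem_centralizer_singleton_iff.2 ?_⟩)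
            have h1 : ⁅(a : R), s⁆ = ⁅(b : R), s⁆ := congrArg Subtype.val hab
            rw [commutatorElement_def, commutatorElement_def, mul_left_inj] at h1
            show (a : R)⁻¹ * b * s = s * ((a : R)⁻¹ * b)
            calc (a : R)⁻¹ * b * s = (a : R)⁻¹ * (b * s * (b : R)⁻¹) * b := by group
              _ = (a : R)⁻¹ * (a * s * (a : R)⁻¹) * b := by rw [h1]
              _ = s * ((a : R)⁻¹ * b) := by group
    have h1 := Subgroup.relIndex_mul_relIndex ⊥ D (N i) bot_le inf_le_left
    have h2 := Subgroup.relIndex_mul_relIndex ⊥ (N (i + 1)) (N i) bot_le (hNle i)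
    rw [Subgroup.relIndex_bot_left, Subgroup.relIndex_bot_left] at h1 h2
    refine Nat.le_of_mul_le_mul_left ?_ (Nat.card_pos (α := N (i + 1)))
    rw [h2, ← h1, mul_comm (Nat.card (N (i + 1))) p]
    exact Nat.mul_le_mul hDc hmap
  refine ⟨{((⊤ : Subgroup R), T)} ∪ Set.range (fun i => (N i, N (i + 1))), ?_, fun φ hφ hP => ?_⟩
  · rintro q (rfl | ⟨i, rfl⟩)
    · exact ⟨inferInstance, hTch, le_top, by rw [Subgroup.relIndex_top_right]; exact hTi.le⟩
    · exact ⟨hNch i, hNch (i + 1), hNle i, hfac i⟩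
  have hNfix : ∀ j i, c ≤ i + j → ∀ x ∈ N i, φ x = x := by
    intro j
    induction j with
    | zero =>
      intro i hi x hx
      have : x ∈ (⊥ : Subgroup R) :=
        hc ▸ (⊤ : Subgroup R).lowerCentralSeries_antitone (by omega : c ≤ i) (hNlcs i hx)
      rw [Subgroup.mem_bot.1 this, map_one]
    | succ j ih =>
      intro i hi x hx
      exact fixed_of_diff_fixed hR hφ (ih (i + 1) (by omega) _ (hP _ (Or.inr ⟨i, rfl⟩) x hx))
  have hT1 : restrictChar T hTch φ = 1 := hKf _ (hφ.coprime_dvd_left (orderOf_map_dvd _ φ))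
    fun x hx => Subtype.ext (hNfix c 0 (by omega) _ (Subgroup.mem_map_of_mem T.subtype hx))
  refine MulEquiv.ext fun x => fixed_of_diff_fixed hR hφ ?_
  exact congrArg Subtype.val (DFunLike.congr_fun hT1 ⟨_, hP _ (Or.inl rfl) x (Subgroup.mem_top x)⟩)

/-- The action of automorphisms on a characteristic section. -/
def sectionAut {R : Type u} [Group R] (H K : Subgroup R) (hH : H.Characteristic) (hK : K.Characteristic)
    [(K.subgroupOf H).Normal] : MulAut R →* MulAut (H ⧸ K.subgroupOf H) where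
  toFun φ := QuotientGroup.congr _ _ (restrictChar H hH φ) (by
    ext x
    constructor
    · rintro ⟨y, hy, rfl⟩
      exact mem_map_char hK φ hy
    · intro hx
      exact ⟨restrictChar H hH φ⁻¹ x, mem_map_char hK φ⁻¹ hx,
        Subtype.ext (φ.apply_symm_apply (x : R))⟩)
  map_one' := MulEquiv.ext fun v => by
    induction v using QuotientGroup.induction_on with
    | H x => rfl
  map_mul' φ ψ := MulEquiv.ext fun v => by
    induction v using QuotientGroup.induction_on with
    | H x => rfl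

/-- BG 5.5: a `p'`-automorphism of a narrow `p`-group of rank at least three has order dividing `p - 1`,
and the derived subgroup of any operator group acts as `p`-elements. -/
theorem narrow_auto {R : Type u} [Group R] [Finite R] (hp2 : p ≠ 2) (hR : IsPGroup p R)
    (hn : Cfsg.IsNarrow p R) (hr : ¬ Cfsg.PRankLE p 2 R) {A : Type*} [Group A] [Finite A]
    (f : A →* MulAut R) (a : A) :
    ((orderOf (f a)).Coprime p → orderOf (f a) ∣ p - 1) ∧
      (a ∈ commutator A → ∃ k : ℕ, f a ^ p ^ k = 1) := by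
  classical
  have hpp := hp.out
  obtain ⟨P, hP, hfaith⟩ := exists_flag hp2 hR hn hr
  -- automorphisms of the sections commute and have order dividing `p - 1`
  have hsec : ∀ q ∈ P, ∀ φ : MulAut R, (∀ x ∈ q.1, x⁻¹ * (φ ^ (p - 1)) x ∈ q.2) ∧
      (∀ b ∈ commutator A, ∀ x ∈ q.1, x⁻¹ * f b x ∈ q.2) := by
    intro q hq φ
    obtain ⟨h1, h2, hle, hidx⟩ := hP q hq
    haveI := h1
    haveI := h2
    haveI : (q.2.subgroupOf q.1).Normal := Subgroup.normal_subgroupOf
    set Q := q.1 ⧸ q.2.subgroupOf q.1 with hQ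
    have hcard : Nat.card Q ≤ p := by rw [← Subgroup.index_eq_card]; exact hidx
    obtain ⟨k, hk⟩ := IsPGroup.iff_card.1 ((hR.to_subgroup q.1).to_quotient (q.2.subgroupOf q.1))
    have hk1 : k ≤ 1 := (Nat.pow_le_pow_iff_right hpp.one_lt).1 (by rw [← hk, pow_one]; exact hcard)
    haveI : IsCyclic Q := by
      rcases Nat.lt_or_ge k 1 with h | h
      · haveI : Subsingleton Q :=
          (Nat.card_eq_one_iff_unique.1 (by rw [hk, show k = 0 by omega, pow_zero])).1
        exact isCyclic_of_subsingleton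
      · exact isCyclic_of_prime_card (p := p) (by rw [hk, show k = 1 by omega, pow_one])
    have hback : ∀ ψ : MulAut R, sectionAut q.1 q.2 h1 h2 ψ = 1 → ∀ x ∈ q.1, x⁻¹ * ψ x ∈ q.2 := by
      intro ψ hψ x hx
      have h3 : sectionAut q.1 q.2 h1 h2 ψ (QuotientGroup.mk (⟨x, hx⟩ : q.1)) =
          QuotientGroup.mk (⟨x, hx⟩ : q.1) := by rw [hψ]; rfl
      exact (QuotientGroup.eq (s := q.2.subgroupOf q.1) (a := (⟨x, hx⟩ : q.1))
        (b := restrictChar q.1 h1 ψ ⟨x, hx⟩)).1 h3.symm
    constructor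
    · refine hback _ ?_
      rw [map_pow, ← orderOf_dvd_iff_pow_eq_one]
      refine (orderOf_dvd_natCard _).trans ?_
      rw [IsCyclic.card_mulAut Q, hk]
      rcases Nat.lt_or_ge k 1 with h | h
      · rw [show k = 0 by omega, pow_zero, Nat.totient_one]; exact one_dvd _
      · rw [show k = 1 by omega, pow_one, Nat.totient_prime hpp]
    · intro b hb
      refine hback _ ?_
      have h3 := Abelianization.commutator_subset_ker ((IsCyclic.mulAutMulEquiv Q).toMonoidHom.comp
        ((sectionAut q.1 q.2 h1 h2).comp f)) hb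
      rw [MonoidHom.mem_ker, MonoidHom.comp_apply, MulEquiv.coe_toMonoidHom, map_eq_one_iff _
        (IsCyclic.mulAutMulEquiv Q).injective] at h3
      exact h3
  constructor
  · intro hco
    refine orderOf_dvd_of_pow_eq_one (hfaith _ (hco.coprime_dvd_left (orderOf_pow_dvd _)) fun q hq => ?_)
    exact (hsec q hq (f a)).1
  · intro ha
    obtain ⟨k, m, hm, hord⟩ := Nat.exists_eq_pow_mul_and_not_dvd (orderOf_pos (f a)).ne' p hpp.ne_one
    refine ⟨k, hfaith _ ?_ fun q hq => ?_⟩
    · refine Nat.Coprime.coprime_dvd_left (orderOf_dvd_of_pow_eq_one (n := m) ?_)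
        ((hpp.coprime_iff_not_dvd.2 hm).symm)
      rw [← pow_mul, ← hord, pow_orderOf_eq_one]
    · rw [← map_pow]
      exact (hsec q hq 1).2 _ ((commutator A).pow_mem ha _)

end CfsgLib.BG
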