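import Mathlib
import Cfsg.Agent.Lib.BG.Narrow
import Cfsg.Agent.Lib.BG.RankTwoOperators
import Cfsg.Agent.Lib.BG.DerivedPGroup
import Cfsg.Agent.Lib.PGroup.RankTwoAut
import Cfsg.Agent.Lib.Fitting.Basic
import Cfsg.Agent.Lib.Transfer.Basic
import Cfsg.Agent.Lib.PSolvable.Core
import Cfsg.Agent.Lib.Layer.PComponent
import Cfsg.Agent.Lib.Blocks.PrincipalPSolvable

/-!
Solvable groups of odd order with a narrow Sylow `p`-subgroup (BG 4.20, 5.6).
-/

set_option autoImplicit false
set_option linter.style.haveILetI false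

namespace CfsgLib.BG

universe u

variable {p : ℕ} [hp : Fact p.Prime]

theorem prankLE_of_injective {A : Type*} {B : Type*} [Group A] [Group B] [Finite B] (f : A →* B)
    (hf : Function.Injective f) {k : ℕ} (h : Cfsg.PRankLE p k B) : Cfsg.PRankLE p k A := by
  intro E hE hEe
  haveI := hE
  have h1 := h (E.map f) (Subgroup.map_isMulCommutative E _) (by
    rintro _ ⟨a, ha, rfl⟩; rw [← map_pow, hEe a ha, map_one])
  rwa [Subgroup.card_map_of_injective hf] at h1

theorem isNarrow_congr {A : Type u} {B : Type u} [Group A] [Group B] [Finite A] [Finite B] (e : A ≃* B)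
    (h : Cfsg.IsNarrow p A) : Cfsg.IsNarrow p B := by
  rcases h with h | ⟨R0, R1, h0, h1, h2, h3, h4⟩
  · exact Or.inl (prankLE_of_injective e.symm.toMonoidHom e.symm.injective h)
  refine Or.inr ⟨R0.map e.toMonoidHom, R1.map e.toMonoidHom, ?_, ?_, ?_, ?_, ?_⟩
  · rw [Subgroup.card_map_of_injective e.injective, h0]
  · haveI := h1
    exact isCyclic_of_surjective (R1.equivMapOfInjective e.toMonoidHom e.injective) (MulEquiv.surjective _)
  · rw [← Subgroup.map_inf _ _ _ e.injective, h2, Subgroup.map_bot]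
  · rintro _ ⟨a, ha, rfl⟩ _ ⟨b, hb, rfl⟩
    rw [← map_mul, ← map_mul, h3 a ha b hb]
  · rw [← Subgroup.map_sup, h4]
    ext x
    obtain ⟨x, rfl⟩ := e.surjective x
    constructor
    · rintro ⟨y, hy, hyx⟩
      rw [e.injective hyx] at hy
      rw [Subgroup.mem_centralizer_iff]
      rintro _ ⟨a, ha, rfl⟩
      show e a * e x = e x * e a
      rw [← map_mul, ← map_mul, Subgroup.mem_centralizer_iff.1 hy a ha]
    · intro hx
      refine ⟨x, Subgroup.mem_centralizer_iff.2 fun a ha => e.injective ?_, rfl⟩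
      rw [map_mul, map_mul]
      exact Subgroup.mem_centralizer_iff.1 hx (e a) ⟨a, ha, rfl⟩

/-- The quotient by `O_{p'}`: operators on `O_p`. -/
theorem core_action (hp2 : p ≠ 2) {Q : Type u} [Group Q] [Finite Q] (hQ : Group.IsSolvable Q)
    (hodd : Odd (Nat.card Q)) (hO : Cfsg.pPrimeCore p Q = ⊥)
    (hn : Cfsg.IsNarrow p ↥(Cfsg.pCore p Q)) :
    (∀ a ∈ commutator Q, ∃ k : ℕ, a ^ p ^ k = 1) ∧
      ∀ q : ℕ, q.Prime → q ∣ Nat.card Q → q = p ∨ q < p := by
  classical
  have hpp := hp.out
  haveI := hQ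
  haveI := Fitting.pCore_normal (G := Q) p
  set P := Cfsg.pCore p Q with hPdef
  have hP : IsPGroup p P := Fitting.pCore_isPGroup p
  have hC : Subgroup.centralizer (P : Set Q) ≤ P :=
    PSolvable.centralizer_pCore_le (PSolvable.isPSolvable_of_isSolvable hQ) hO
  set f : Q →* MulAut P := MulAut.conjNormal with hf
  have hker : ∀ x : Q, f x = 1 → x ∈ P := fun x hx => hC (Subgroup.mem_centralizer_iff.2 fun y hy =>
    (mul_inv_eq_iff_eq_mul.1 ((MulAut.conjNormal_apply x ⟨y, hy⟩).symm.trans
      (congrArg Subtype.val (DFunLike.congr_fun hx ⟨y, hy⟩)))).symm)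
  refine ⟨fun a ha => ?_, fun q hq hqd => ?_⟩
  · have h1 : ∃ k : ℕ, f a ^ p ^ k = 1 := by
      by_cases hr : Cfsg.PRankLE p 2 P
      · exact derived_acts_as_pElement hp2 hP hr hQ hodd f ha
      · exact (narrow_auto hp2 hP hn hr f a).2 ha
    obtain ⟨k, hk⟩ := h1
    rw [← map_pow] at hk
    obtain ⟨j, hj⟩ := hP ⟨_, hker _ hk⟩
    exact ⟨k + j, by rw [pow_add, pow_mul]; exact congrArg Subtype.val hj⟩
  · by_cases hqp : q = p
    · exact Or.inl hqp
    right
    haveI := Fact.mk hq
    obtain ⟨a, ha⟩ := exists_prime_orderOf_dvd_card' (G := Q) q hqd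
    have hfa : orderOf (f a) = q := by
      refine ((Nat.dvd_prime hq).1 (ha ▸ orderOf_map_dvd f a)).resolve_left fun h => ?_
      obtain ⟨j, hj⟩ := hP ⟨a, hker a (orderOf_eq_one_iff.1 h)⟩
      have h1 : orderOf a ∣ p ^ j := orderOf_dvd_of_pow_eq_one (congrArg Subtype.val hj)
      rw [ha] at h1
      exact hqp ((Nat.prime_dvd_prime_iff_eq hq hpp).1 (hq.dvd_of_dvd_pow h1))
    have hp1 : 1 ≤ p - 1 := by have := hpp.two_le; omega
    by_cases hr : Cfsg.PRankLE p 2 P
    · have h1 := RankTwoAut.prime_dvd_of_rank_two hP hp2 hr hqp (f a) hfa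
      rw [show p ^ 2 - 1 = (p + 1) * (p - 1) by rw [← Nat.sq_sub_sq, one_pow]] at h1
      rcases hq.dvd_mul.1 h1 with h2 | h2
      · have hq2 : Odd q := Odd.of_dvd_nat hodd hqd
        have h3 := Nat.Coprime.mul_dvd_of_dvd_of_dvd (Nat.coprime_two_left.2 hq2)
          ((Nat.Prime.odd_of_ne_two hpp hp2).add_one.two_dvd) h2
        have := Nat.le_of_dvd (by omega) h3
        omega
      · have := Nat.le_of_dvd hp1 h2
        omega
    · have h1 := (narrow_auto hp2 hP hn hr f a).1 (by rw [hfa]; exact (Nat.coprime_primes hq hpp).2 hqp)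
      rw [hfa] at h1
      have := Nat.le_of_dvd hp1 h1
      omega

/-- BG 4.20 and 5.6 in one statement. -/
theorem narrow_sylow_structure {G : Type u} [Group G] [Finite G] (hsol : Group.IsSolvable G)
    (hodd : Odd (Nat.card G)) (hpG : p ∣ Nat.card G) (S : Sylow p G)
    (hS : Cfsg.IsNarrow p ↥(S : Subgroup G))
    (hpl : ¬ Cfsg.PRankLE p 2 ↥(S : Subgroup G) → Cfsg.PLengthLE p 1 G) :
    (∀ q : ℕ, q.Prime → q ∣ (Cfsg.pPrimeCore p G).index → q ≤ p) ∧
      ((p = 3 ∨ ∀ q : ℕ, q.Prime → q ∣ Nat.card G → p ≤ q) → Cfsg.HasNormalPComplement p G) ∧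
      Cfsg.HasNormalPComplement p ↥(commutator G) ∧
      (∀ L : Subgroup ↥(commutator G), (Nat.card L).Coprime p → L ≤ Cfsg.pPrimeCore p ↥(commutator G)) ∧
      commutator G ≤ Cfsg.pPrimePCore p G ∧ ((Cfsg.pPrimePCore p G).index).Coprime p := by
  classical
  have hpp := hp.out
  haveI := hsol
  have hp2 : p ≠ 2 := fun h => by
    subst h
    exact (Nat.not_even_iff_odd.2 hodd) (even_iff_two_dvd.2 hpG)
  haveI hKn : (Cfsg.pPrimeCore p G).Normal := Transfer.pPrimeCore_normal p G
  set K := Cfsg.pPrimeCore p G with hK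
  have hKc : (Nat.card K).Coprime p := Transfer.pPrimeCore_coprime p
  set q := QuotientGroup.mk' K with hq
  have hO : Cfsg.pPrimeCore p (G ⧸ K) = ⊥ := Layer.pPrimeCore_quotient_eq_bot p
  have hoddQ : Odd (Nat.card (G ⧸ K)) := Odd.of_dvd_nat hodd (Subgroup.card_quotient_dvd_card K)
  haveI hQs : Group.IsSolvable (G ⧸ K) := solvable_of_surjective (QuotientGroup.mk'_surjective K)
  -- the Sylow subgroup of the quotient
  have hSinf : ∀ x ∈ (S : Subgroup G), x ∈ K → x = 1 := fun x hxS hxK =>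
    PSolvable.eq_one_of_mem_of_mem S.2 hKc hxS hxK
  set Sb := (S : Subgroup G).map q with hSb
  let e : (S : Subgroup G) ≃* Sb := MulEquiv.ofBijective (q.subgroupMap (S : Subgroup G))
    ⟨fun a b h => Subtype.ext (by
      have h1 : q a = q b := congrArg Subtype.val h
      exact inv_mul_eq_one.1 (hSinf _ (mul_mem (inv_mem a.2) b.2) (QuotientGroup.eq.1 h1))),
    MonoidHom.subgroupMap_surjective _ _⟩
  haveI := Fitting.pCore_normal (G := G ⧸ K) p
  set P := Cfsg.pCore p (G ⧸ K) with hPdef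
  have hPS : P ≤ Sb := (Fitting.pCore_eq_iInf_sylow (G := G ⧸ K) p).le.trans (iInf_le _
    (Sylow.mapSurjective (QuotientGroup.mk'_surjective K) S))
  have hPn : Cfsg.IsNarrow p P := by
    by_cases hr : Cfsg.PRankLE p 2 ↥(S : Subgroup G)
    · exact Or.inl (prankLE_of_injective (e.symm.toMonoidHom.comp (Subgroup.inclusion hPS))
        (e.symm.injective.comp (Subgroup.inclusion_injective hPS)) hr)
    · have hn : Sb.Normal := (Blocks.pLengthLE_one_iff S).1 (hpl hr)
      have hle : Sb ≤ P := le_sSup ⟨hn, S.2.map q⟩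
      have heq : P = Sb := le_antisymm hPS hle
      rw [heq]
      exact isNarrow_congr e hS
  obtain ⟨hder, hprimes⟩ := core_action hp2 hQs hoddQ hO hPn
  obtain ⟨hcomm, hidx⟩ := structure_of_derived_pGroup hder
  have hcompl : ∀ (H : Type u) [Group H] [Finite H] (N : Subgroup H), N.Normal →
      (Nat.card N).Coprime p → (∃ k, N.index = p ^ k) → Cfsg.HasNormalPComplement p H := by
    intro H _ _ N hN hNc hk
    obtain ⟨k, hk⟩ := hk
    let P' : Sylow p H := default
    refine ⟨P', N, hN, Subgroup.isComplement'_of_coprime ?_ ?_⟩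
    · obtain ⟨j, hj⟩ := IsPGroup.iff_card.1 P'.2
      have h1 := N.card_mul_index
      have h2 := Sylow.card_eq_multiplicity P'
      rw [h2, ← h1, hk]
      congr 2
      rw [Nat.factorization_mul Nat.card_pos.ne' (pow_ne_zero _ hpp.ne_zero), Finsupp.add_apply,
        hpp.factorization_pow, Finsupp.single_eq_same,
        Nat.factorization_eq_zero_of_not_dvd (hpp.coprime_iff_not_dvd.1 hNc.symm), zero_add]
    · obtain ⟨j, hj⟩ := IsPGroup.iff_card.1 P'.2
      rw [hj]
      exact hNc.pow_right j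
  set D := commutator G with hD
  have hDp : ∀ d ∈ D, ∃ k : ℕ, d ^ p ^ k ∈ K := fun d hd => by
    obtain ⟨k, hk⟩ := hder (q d) (by
      rw [commutator_def, ← Subgroup.map_top_of_surjective q (QuotientGroup.mk'_surjective K),
        ← Subgroup.map_commutator]
      exact Subgroup.mem_map_of_mem q (commutator_def G ▸ hd))
    rw [← map_pow] at hk
    exact ⟨k, (QuotientGroup.eq_one_iff _).1 hk⟩
  refine ⟨fun r hr hrd => ?_, fun hor => ?_, ?_, ?_, ?_, ?_⟩
  · rcases hprimes r hr (Subgroup.index_eq_card K ▸ hrd) with h | h <;> omega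
  · have hQp : IsPGroup p (G ⧸ K) := by
      refine IsPGroup.of_card (n := (Nat.card (G ⧸ K)).primeFactorsList.length)
        (Nat.eq_prime_pow_of_unique_prime_dvd Nat.card_pos.ne' fun {r} hr hrd => ?_)
      rcases hprimes r hr hrd with h | h
      · exact h
      · exfalso
        rcases hor with h3 | hmin
        · have h4 := hr.two_le
          have h5 : r = 2 := by omega
          rw [h5] at hrd
          exact (Nat.not_even_iff_odd.2 hoddQ) (even_iff_two_dvd.2 hrd)
        · exact absurd (hmin r hr (hrd.trans (Subgroup.card_quotient_dvd_card K))) (by omega)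
    refine hcompl G K hKn hKc ?_
    rw [Subgroup.index_eq_card]
    exact IsPGroup.iff_card.1 hQp
  · refine hcompl D (K.subgroupOf D) inferInstance (hKc.coprime_dvd_left ?_) ?_
    · exact Subgroup.card_dvd_of_injective ((D.subtype.comp (K.subgroupOf D).subtype).codRestrict K
        fun x => x.2) fun a b h => Subtype.ext (Subtype.ext (congrArg Subtype.val h :))
    · have hQp : IsPGroup p (D ⧸ K.subgroupOf D) := fun x => by
        obtain ⟨d, rfl⟩ := QuotientGroup.mk'_surjective _ x
        obtain ⟨k, hk⟩ := hDp d d.2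
        exact ⟨k, by rw [← map_pow]; exact (QuotientGroup.eq_one_iff _).2 hk⟩
      rw [Subgroup.index_eq_card]
      exact IsPGroup.iff_card.1 hQp
  · intro L hL x hx
    have hxK : (x : G) ∈ K := by
      obtain ⟨k, hk⟩ := hDp x x.2
      refine (QuotientGroup.eq_one_iff _).1 (orderOf_eq_one_iff.1 (Nat.eq_one_of_dvd_coprimes
        (hL.pow_right k) ?_ (orderOf_dvd_of_pow_eq_one (?_ : (q (x : G)) ^ p ^ k = 1))))
      · exact ((orderOf_map_dvd q (x : G)).trans (Subgroup.orderOf_coe x).dvd).trans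
          (Subgroup.orderOf_dvd_natCard L hx)
      · rw [← map_pow]; exact (QuotientGroup.eq_one_iff _).2 hk
    have hle : K.subgroupOf D ≤ Cfsg.pPrimeCore p D := le_sSup ⟨inferInstance,
      hKc.coprime_dvd_left (Subgroup.card_dvd_of_injective
        ((D.subtype.comp (K.subgroupOf D).subtype).codRestrict K fun x => x.2)
        fun a b h => Subtype.ext (Subtype.ext (congrArg Subtype.val h :)))⟩
    exact hle hxK
  · intro d hd
    refine Subgroup.mem_comap.2 (hcomm ?_)
    rw [commutator_def, ← Subgroup.map_top_of_surjective q (QuotientGroup.mk'_surjective K),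
      ← Subgroup.map_commutator]
    exact Subgroup.mem_map_of_mem q (commutator_def G ▸ hd)
  · rw [Cfsg.pPrimePCore, Subgroup.index_comap_of_surjective _ (QuotientGroup.mk'_surjective K)]
    exact hidx

end CfsgLib.BG
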