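import Mathlib
import Cfsg.Agent.Lib.BG.NarrowSylow
import Cfsg.Agent.Lib.Fitting.Basic
import Cfsg.Agent.Lib.PSolvable.Core

/-!
Operators of odd order acting on a Fitting subgroup of small rank (BG 4.20, 5.6).
-/

set_option autoImplicit false
set_option linter.style.haveILetI false

open scoped commutatorElement

namespace CfsgLib.BG

universe u

variable {G : Type u} [Group G] [Finite G]

theorem normal_sylow_of_nilpotent (F : Subgroup G) (h : Group.IsNilpotent F) {r : ℕ} [Fact r.Prime]
    (P : Sylow r F) : (P : Subgroup F).Normal := by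
  have h1 := (Group.isNilpotent_of_finite_tfae (G := F)).out 0 3
  exact h1.1 h r inferInstance P

/-- The cores generate the Fitting subgroup. -/
theorem fitting_le_of_pCore_le {H : Subgroup G}
    (h : ∀ r : ℕ, r.Prime → Cfsg.pCore r G ≤ H) : Cfsg.fittingSubgroup G ≤ H := by
  haveI := Fitting.fittingSubgroup_normal (G := G)
  haveI := Fitting.fittingSubgroup_isNilpotent (G := G)
  set F := Cfsg.fittingSubgroup G with hF
  have htop : H.subgroupOf F = ⊤ := by
    rw [← Subgroup.index_eq_one]
    by_contra hne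
    obtain ⟨r, hr, hrd⟩ := Nat.exists_prime_and_dvd hne
    haveI := Fact.mk hr
    obtain ⟨P⟩ : Nonempty (Sylow r F) := inferInstance
    haveI : (P : Subgroup F).Normal := normal_sylow_of_nilpotent F (Fitting.fittingSubgroup_isNilpotent (G := G)) P
    haveI := P.characteristic_of_normal inferInstance
    have hle : (P : Subgroup F) ≤ H.subgroupOf F := fun x hx =>
      h r hr (Fitting.le_pCore (ConjAct.normal_of_characteristic_of_normal (K := (P : Subgroup F)))
        (P.2.map F.subtype) (Subgroup.mem_map_of_mem F.subtype hx))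
    exact P.not_dvd_index (hrd.trans (Subgroup.index_dvd_of_le hle))
  exact fun x hx => (Subgroup.subgroupOf_eq_top.1 htop) hx

/-- Primary elements of the Fitting subgroup lie in the cores. -/
theorem mem_pCore_of_mem_fitting {r : ℕ} (hr : r.Prime) {x : G} (hx : x ∈ Cfsg.fittingSubgroup G)
    {k : ℕ} (hk : x ^ r ^ k = 1) : x ∈ Cfsg.pCore r G := by
  haveI := Fact.mk hr
  haveI := Fitting.fittingSubgroup_normal (G := G)
  haveI := Fitting.fittingSubgroup_isNilpotent (G := G)
  set F := Cfsg.fittingSubgroup G with hF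
  have hZ : IsPGroup r (Subgroup.zpowers (⟨x, hx⟩ : F)) := IsPGroup.iff_card.2 (by
    obtain ⟨j, -, hj⟩ := (Nat.dvd_prime_pow hr).1 (orderOf_dvd_of_pow_eq_one
      (show (⟨x, hx⟩ : F) ^ r ^ k = 1 from Subtype.ext (by simpa using hk)))
    exact ⟨j, by rw [Nat.card_zpowers, hj]⟩)
  obtain ⟨P, hP⟩ := hZ.exists_le_sylow
  haveI : (P : Subgroup F).Normal := normal_sylow_of_nilpotent F (Fitting.fittingSubgroup_isNilpotent (G := G)) P
  haveI := P.characteristic_of_normal inferInstance
  exact Fitting.le_pCore (ConjAct.normal_of_characteristic_of_normal (K := (P : Subgroup F)))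
    (P.2.map F.subtype) (Subgroup.mem_map_of_mem F.subtype (hP (Subgroup.mem_zpowers _)))

/-- The centralizer of `O_r(G)`, read off from the conjugation action. -/
theorem commute_of_conjNormal_eq_one {N : Subgroup G} [N.Normal] {a : G}
    (h : (MulAut.conjNormal : G →* MulAut N) a = 1) {y : G} (hy : y ∈ N) : Commute a y :=
  mul_inv_eq_iff_eq_mul.1 ((MulAut.conjNormal_apply a ⟨y, hy⟩).symm.trans
    (congrArg Subtype.val (DFunLike.congr_fun h ⟨y, hy⟩)))

/-- An element of the Fitting subgroup that a `q`-element absorbs lies in `O_q`. -/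
theorem mem_pCore_of_absorbed {q : ℕ} (hq : q.Prime) {z y : G} (hz : z ∈ Cfsg.fittingSubgroup G)
    (hy : ∀ s : ℕ, s.Prime → s ≠ q → ∀ w ∈ Cfsg.pCore s G, Commute y w)
    {n : ℕ} (hyn : y ^ q ^ n = 1) (hzy : (z * y) ^ q ^ n = 1) : z ∈ Cfsg.pCore q G := by
  haveI := Fitting.pCore_normal (G := G) q
  set O := Cfsg.pCore q G with hO
  have hz' : z ∈ O ⊔ Subgroup.centralizer ({y} : Set G) := by
    refine fitting_le_of_pCore_le (fun s hs => ?_) hz
    by_cases hsq : s = q
    · exact hsq ▸ le_sup_left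
    · exact le_trans (fun w hw => Subgroup.mem_centralizer_singleton_iff.2 (hy s hs hsq w hw).symm.eq)
        le_sup_right
  obtain ⟨w, hw, c, hc, rfl⟩ := Subgroup.mem_sup_of_normal_left.1 hz'
  have hc' : Commute (QuotientGroup.mk' O c) (QuotientGroup.mk' O y) :=
    Commute.map (Subgroup.mem_centralizer_singleton_iff.1 hc) _
  have hwc : QuotientGroup.mk' O (w * c) = QuotientGroup.mk' O c := by
    rw [map_mul, show QuotientGroup.mk' O w = 1 from (QuotientGroup.eq_one_iff w).2 hw, one_mul]
  have h1 := congrArg (QuotientGroup.mk' O) hzy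
  rw [map_pow, map_mul, hwc, map_one, hc'.mul_pow, ← map_pow (QuotientGroup.mk' O) y, hyn, map_one,
    mul_one, ← hwc, ← map_pow] at h1
  obtain ⟨j, hj⟩ := Fitting.pCore_isPGroup (G := G) q ⟨_, (QuotientGroup.eq_one_iff _).1 h1⟩
  refine mem_pCore_of_mem_fitting hq hz (k := n + j) ?_
  rw [pow_add, pow_mul]
  exact congrArg Subtype.val hj

/-- If the derived group acts on each `O_r` through `r`-elements, it is nilpotent. -/
theorem derived_le_fitting [Group.IsSolvable G]
    (h : ∀ r : ℕ, r.Prime → ∀ a ∈ commutator G, ∃ k : ℕ, ∀ y ∈ Cfsg.pCore r G, Commute (a ^ r ^ k) y) :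
    Group.IsNilpotent ↥(commutator G) ∧ commutator G ≤ Cfsg.fittingSubgroup G := by
  have hcent : ∀ (r : ℕ), r.Prime → ∀ a ∈ commutator G, ∀ n : ℕ, a ^ r ^ n = 1 →
      ∀ s : ℕ, s.Prime → s ≠ r → ∀ w ∈ Cfsg.pCore s G, Commute a w := by
    intro r hr a ha n han s hs hsr w hw
    obtain ⟨k, hk⟩ := h s hs a ha
    obtain ⟨m, hm⟩ := exists_pow_eq_self_of_coprime (n := s ^ k) (x := a)
      (((Nat.coprime_primes hs hr).2 hsr).pow k n |>.coprime_dvd_right (orderOf_dvd_of_pow_eq_one han))
    rw [← hm]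
    exact (hk w hw).pow_left m
  have hcomm : ∀ r q : ℕ, r.Prime → q.Prime → r ≠ q → ∀ x ∈ commutator G, ∀ y ∈ commutator G,
      ∀ i j : ℕ, x ^ r ^ i = 1 → y ^ q ^ j = 1 → Commute x y := by
    intro r q hr hq hrq x hx y hy i j hxi hyj
    set z := ⁅x, y⁆ with hz
    have hzC : z ∈ Subgroup.centralizer (Cfsg.fittingSubgroup G : Set G) := by
      intro w hw
      have h1 : Cfsg.fittingSubgroup G ≤ Subgroup.centralizer ({z} : Set G) := by
        refine fitting_le_of_pCore_le fun s hs v hv => Subgroup.mem_centralizer_singleton_iff.2 ?_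
        haveI := Fitting.pCore_normal (G := G) s
        refine Commute.symm ?_ |>.eq
        refine commute_of_conjNormal_eq_one (N := Cfsg.pCore s G) ?_ hv
        rw [hz, map_commutatorElement, commutatorElement_eq_one_iff_commute]
        by_cases hsr : s = r
        · subst hsr
          rw [(_ : (MulAut.conjNormal : G →* MulAut (Cfsg.pCore s G)) y = 1)]
          · exact Commute.one_right _
          · refine MulEquiv.ext fun v => Subtype.ext ?_
            rw [MulAut.conjNormal_apply, (hcent q hq y hy j hyj s hs hrq v v.2).eq, mul_inv_cancel_right]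
            rfl
        · rw [(_ : (MulAut.conjNormal : G →* MulAut (Cfsg.pCore s G)) x = 1)]
          · exact Commute.one_left _
          · refine MulEquiv.ext fun v => Subtype.ext ?_
            rw [MulAut.conjNormal_apply, (hcent r hr x hx i hxi s hs hsr v v.2).eq, mul_inv_cancel_right]
            rfl
      exact Subgroup.mem_centralizer_singleton_iff.1 (h1 hw)
    have hzF := PSolvable.centralizer_fittingSubgroup_le hzC
    have h1 : z ∈ Cfsg.pCore q G := by
      refine mem_pCore_of_absorbed hq hzF (hcent q hq y hy j hyj) hyj ?_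
      rw [hz, commutatorElement_def, inv_mul_cancel_right, conj_pow, hyj, mul_one, mul_inv_cancel]
    have h2 : z⁻¹ ∈ Cfsg.pCore r G := by
      refine mem_pCore_of_absorbed hr (inv_mem hzF) (hcent r hr x hx i hxi) hxi ?_
      rw [hz, commutatorElement_inv, commutatorElement_def, inv_mul_cancel_right, conj_pow, hxi, mul_one,
        mul_inv_cancel]
    haveI := Fact.mk hr
    haveI := Fact.mk hq
    have hd := (IsPGroup.disjoint_of_ne r q hrq (Cfsg.pCore r G) (Cfsg.pCore q G) (Fitting.pCore_isPGroup r) (Fitting.pCore_isPGroup q))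
    exact commutatorElement_eq_one_iff_commute.1 (Subgroup.disjoint_def.1 hd ((inv_mem_iff).1 h2) h1)
  have hnil : Group.IsNilpotent ↥(commutator G) := by
    refine ((Group.isNilpotent_of_finite_tfae (G := ↥(commutator G))).out 0 3).2 fun r hr P => ?_
    rw [← Subgroup.normalizer_eq_top_iff]
    rw [← Subgroup.index_eq_one]
    by_contra hne
    obtain ⟨q, hq, hqd⟩ := Nat.exists_prime_and_dvd hne
    haveI := Fact.mk hq
    have hrp := hr.out
    by_cases hrq : r = q
    · subst hrq
      exact P.not_dvd_index (hqd.trans (Subgroup.index_dvd_of_le Subgroup.le_normalizer))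
    · obtain ⟨Q⟩ : Nonempty (Sylow q ↥(commutator G)) := inferInstance
      refine Q.not_dvd_index (hqd.trans (Subgroup.index_dvd_of_le fun y hy => ?_))
      refine (Subgroup.centralizer_le_normalizer _) (Subgroup.mem_centralizer_iff.2 fun x hx => Subtype.ext ?_)
      obtain ⟨i, hi⟩ := P.2 ⟨x, hx⟩
      obtain ⟨j, hj⟩ := Q.2 ⟨y, hy⟩
      exact hcomm r q hrp hq hrq x x.2 y y.2 i j
        (congrArg Subtype.val (congrArg Subtype.val hi)) (congrArg Subtype.val (congrArg Subtype.val hj))
  exact ⟨hnil, Fitting.le_fittingSubgroup inferInstance hnil⟩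

/-- The derived group of an odd solvable group acts on a narrow `O_r` as an `r`-group. -/
theorem derived_acts_on_pCore {r : ℕ} (hr : r.Prime) (hsol : Group.IsSolvable G) (hodd : Odd (Nat.card G))
    (hn : Cfsg.IsNarrow r ↥(Cfsg.pCore r G)) :
    ∀ a ∈ commutator G, ∃ k : ℕ, ∀ y ∈ Cfsg.pCore r G, Commute (a ^ r ^ k) y := by
  haveI := Fact.mk hr
  haveI := Fitting.pCore_normal (G := G) r
  intro a ha
  have hP : IsPGroup r (Cfsg.pCore r G) := Fitting.pCore_isPGroup r
  by_cases hr2 : r = 2
  · subst hr2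
    refine ⟨0, fun y hy => ?_⟩
    obtain ⟨j, hj⟩ := hP ⟨y, hy⟩
    obtain ⟨m, hm⟩ := exists_pow_eq_self_of_coprime (n := 2 ^ j) (x := y)
      ((Nat.coprime_two_left.2 (Odd.of_dvd_nat hodd (orderOf_dvd_natCard y))).pow_left j)
    rw [show y ^ 2 ^ j = 1 from congrArg Subtype.val hj, one_pow] at hm
    rw [← hm]
    exact Commute.one_right _
  set f : G →* MulAut (Cfsg.pCore r G) := MulAut.conjNormal with hf
  have h1 : ∃ k : ℕ, f a ^ r ^ k = 1 := by
    by_cases hk : Cfsg.PRankLE r 2 (Cfsg.pCore r G)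
    · exact derived_acts_as_pElement hr2 hP hk hsol hodd f ha
    · exact (narrow_auto hr2 hP hn hk f a).2 ha
  obtain ⟨k, hk⟩ := h1
  exact ⟨k, fun y hy => commute_of_conjNormal_eq_one (by rw [map_pow]; exact hk) hy⟩

/-- An element whose order has only prime divisors above `r` centralizes `O_r` of rank at most two. -/
theorem centralizes_pCore {r : ℕ} (hr : r.Prime) (hodd : Odd (Nat.card G))
    (hrk : Cfsg.PRankLE r 2 ↥(Cfsg.pCore r G)) {a : G}
    (ha : ∀ q : ℕ, q.Prime → q ∣ orderOf a → r < q) {y : G} (hy : y ∈ Cfsg.pCore r G) : Commute a y := by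
  haveI := Fact.mk hr
  haveI := Fitting.pCore_normal (G := G) r
  have hP : IsPGroup r (Cfsg.pCore r G) := Fitting.pCore_isPGroup r
  by_cases hr2 : r = 2
  · subst hr2
    obtain ⟨j, hj⟩ := hP ⟨y, hy⟩
    obtain ⟨m, hm⟩ := exists_pow_eq_self_of_coprime (n := 2 ^ j) (x := y)
      ((Nat.coprime_two_left.2 (Odd.of_dvd_nat hodd (orderOf_dvd_natCard y))).pow_left j)
    rw [show y ^ 2 ^ j = 1 from congrArg Subtype.val hj, one_pow] at hm
    rw [← hm]
    exact Commute.one_right _
  refine commute_of_conjNormal_eq_one ?_ hy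
  set f : G →* MulAut (Cfsg.pCore r G) := MulAut.conjNormal with hf
  by_contra hne
  obtain ⟨q, hq, hqd⟩ := Nat.exists_prime_and_dvd (fun e => hne (orderOf_eq_one_iff.1 e))
  have hqa : q ∣ orderOf a := hqd.trans (orderOf_map_dvd f a)
  have hrq := ha q hq hqa
  haveI := Fact.mk hq
  obtain ⟨t, ht⟩ := hqd
  have ht0 : t ≠ 0 := by
    rintro rfl
    rw [mul_zero, orderOf_eq_zero_iff] at ht
    exact ht (isOfFinOrder_of_finite _)
  have hord : orderOf (f a ^ t) = q := by
    rw [orderOf_pow_of_dvd ht0 (ht ▸ dvd_mul_left t q), ht, Nat.mul_div_cancel _ (Nat.pos_of_ne_zero ht0)]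
  have h1 := RankTwoAut.prime_dvd_of_rank_two hP hr2 hrk hrq.ne' (f a ^ t) hord
  rw [show r ^ 2 - 1 = (r + 1) * (r - 1) by rw [← Nat.sq_sub_sq, one_pow]] at h1
  have := hr.two_le
  rcases hq.dvd_mul.1 h1 with h2 | h2
  · have h3 := Nat.Coprime.mul_dvd_of_dvd_of_dvd
      (Nat.coprime_two_left.2 (Odd.of_dvd_nat hodd (hqa.trans (orderOf_dvd_natCard a))))
      ((Nat.Prime.odd_of_ne_two hr hr2).add_one.two_dvd) h2
    have := Nat.le_of_dvd (by omega) h3
    omega
  · have := Nat.le_of_dvd (by omega) h2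
    omega

end CfsgLib.BG
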