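import Mathlib
import Cfsg.Agent.S1453
import Cfsg.Agent.Lib.PGroup.NormalRankTwo

/-!
A `p`-group with a small centralizer of an elementary abelian subgroup is narrow (BG 5.3).
-/

set_option autoImplicit false
set_option linter.style.haveILetI false

open scoped commutatorElement

namespace CfsgLib.BG

universe u

variable {p : ℕ} [hp : Fact p.Prime] {R : Type u} [Group R] [Finite R]

theorem prankLE_mono {H K : Subgroup R} (h : H ≤ K) {k : ℕ} (hK : Cfsg.PRankLE p k K) :
    Cfsg.PRankLE p k H := by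
  intro E hE hEe
  haveI := hE
  have h1 := hK (E.map (Subgroup.inclusion h)) (Subgroup.map_isMulCommutative E _) (by
    rintro _ ⟨a, ha, rfl⟩; rw [← map_pow, hEe a ha, map_one])
  rwa [Subgroup.card_map_of_injective (Subgroup.inclusion_injective h)] at h1

theorem card_le_of_elementary_le {H B : Subgroup R} {k : ℕ} (hH : Cfsg.PRankLE p k H) (hBH : B ≤ H)
    (hB : Cfsg.IsElementaryAbelian p B) : Nat.card B ≤ p ^ k := by
  haveI := hB.1
  haveI : IsMulCommutative (B.subgroupOf H) := ⟨⟨fun a b => Subtype.ext (Subtype.ext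
    (show ((a : H) : R) * ((b : H) : R) = ((b : H) : R) * ((a : H) : R) from congrArg Subtype.val
      (mul_comm' (⟨((a : H) : R), a.2⟩ : B) ⟨((b : H) : R), b.2⟩)))⟩⟩
  have h1 := hH (B.subgroupOf H) inferInstance fun a ha => Subtype.ext (hB.2 (a : R) ha)
  rwa [Nat.card_congr (Subgroup.subgroupOfEquivOfLe hBH).toEquiv] at h1

theorem isNarrow_of_centralizer_rank (hp2 : p ≠ 2) (hR : IsPGroup p R) {E : Subgroup R}
    (hE : Cfsg.IsElementaryAbelian p E)
    (hC : Cfsg.PRankLE p 2 ↥(Subgroup.centralizer (E : Set R))) : Cfsg.IsNarrow p R := by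
  classical
  have hpp := hp.out
  by_cases hr : Cfsg.PRankLE p 2 R
  · exact Or.inl hr
  haveI := hE.1
  have htop : ∀ D : Subgroup R, D ≤ Subgroup.center R → E ≤ D → False := by
    intro D hD hED
    have h0 : Subgroup.centralizer (E : Set R) = ⊤ := eq_top_iff.2 fun x _ u hu =>
      (Subgroup.mem_center_iff.1 (hD (hED hu)) x).symm
    refine hr fun B hBc hBe => ?_
    exact card_le_of_elementary_le hC (by rw [h0]; exact le_top) ⟨hBc, hBe⟩
  set E' := Subgroup.closure ((E : Set R) ∪ {x : R | x ∈ Subgroup.center R ∧ x ^ p = 1}) with hE'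
  haveI hc : IsMulCommutative E' := Subgroup.isMulCommutative_closure (by
    rintro u (hu | hu) v (hv | hv)
    · exact congrArg Subtype.val (mul_comm' (⟨u, hu⟩ : E) ⟨v, hv⟩)
    · exact Subgroup.mem_center_iff.1 hv.1 u
    · exact (Subgroup.mem_center_iff.1 hu.1 v).symm
    · exact Subgroup.mem_center_iff.1 hv.1 u)
  have he : Cfsg.IsElementaryAbelian p E' := ⟨hc, fun u hu => by
    induction hu using Subgroup.closure_induction with
    | mem v hv =>
      rcases hv with hv | hv
      · exact hE.2 v hv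
      · exact hv.2
    | one => exact one_pow p
    | mul v w hv hw iv iw =>
      have hvw : Commute v w := congrArg Subtype.val (mul_comm' (⟨v, hv⟩ : E') ⟨w, hw⟩)
      rw [hvw.mul_pow, iv, iw, one_mul]
    | inv v _ iv => rw [inv_pow, iv, inv_one]⟩
  have hEE' : E ≤ E' := fun u hu => Subgroup.subset_closure (Or.inl hu)
  have hE'C : E' ≤ Subgroup.centralizer (E : Set R) := fun v hv u hu =>
    congrArg Subtype.val (mul_comm' (⟨u, hEE' hu⟩ : E') ⟨v, hv⟩)
  have hle := card_le_of_elementary_le hC hE'C he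
  obtain ⟨a, ha⟩ := IsPGroup.iff_card.1 (hR.to_subgroup E')
  rw [ha] at hle
  have ha2 : a = 2 := by
    have := (Nat.pow_le_pow_iff_right hpp.one_lt).1 hle
    by_contra hne
    refine htop E' ?_ hEE'
    haveI : Nontrivial R := by
      by_contra h
      haveI := not_nontrivial_iff_subsingleton.mp h
      exact hr fun B _ _ => (Nat.card_of_subsingleton (1 : B)).le.trans (Nat.one_le_pow _ _ hpp.pos)
    haveI := hR.center_nontrivial
    obtain ⟨n, hn0, hn⟩ := (hR.to_subgroup (Subgroup.center R)).nontrivial_iff_card.mp inferInstance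
    obtain ⟨z, hz⟩ := exists_prime_orderOf_dvd_card' (G := Subgroup.center R) p (hn ▸ dvd_pow_self p hn0.ne')
    rw [← Subgroup.orderOf_coe] at hz
    have hzE : (z : R) ∈ E' := Subgroup.subset_closure (Or.inr ⟨z.2, by rw [← hz]; exact pow_orderOf_eq_one _⟩)
    have heq : Subgroup.zpowers (z : R) = E' := Subgroup.eq_of_le_of_card_ge
      (Subgroup.zpowers_le.2 hzE) (by
        rw [Nat.card_zpowers, hz, ha]
        exact (Nat.pow_le_pow_right hpp.pos (show a ≤ 1 by omega)).trans (pow_one p).le)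
    exact heq ▸ Subgroup.zpowers_le.2 z.2
  subst ha2
  have hmax : ∀ B : Subgroup R, Cfsg.IsElementaryAbelian p B → E' ≤ B → B = E' := fun B hB hEB => by
    haveI := hB.1
    refine (Subgroup.eq_of_le_of_card_ge hEB ?_).symm
    rw [ha]
    exact card_le_of_elementary_le hC (fun v hv u hu =>
      congrArg Subtype.val (mul_comm' (⟨u, hEB (hEE' hu)⟩ : B) ⟨v, hv⟩)) hB
  obtain ⟨hnot, hZ0, -, hchar, hidx⟩ := Cfsg.Agent.S1453.result p hp2 hR hr E' he ha hmax
  set C := Subgroup.centralizer ((Subgroup.closure {x : R | x ∈ Subgroup.upperCentralSeries R 2 ∧ x ^ p = 1} : Subgroup R) : Set R) with hCdef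
  haveI := hchar
  set Z0 := Subgroup.closure {x : R | x ∈ Subgroup.center R ∧ x ^ p = 1} with hZ0def
  obtain ⟨e, heE, heC⟩ := SetLike.not_le_iff_exists.1 hnot
  have hadd : ∀ x ∈ Subgroup.centralizer (E' : Set R), x ^ p = 1 → x ∈ E' := by
    intro x hx hxp
    have hcx : IsMulCommutative (Subgroup.closure ((E' : Set R) ∪ {x})) :=
      Subgroup.isMulCommutative_closure (by
        rintro u (hu | rfl) v (hv | rfl)
        · exact congrArg Subtype.val (mul_comm' (⟨u, hu⟩ : E') ⟨v, hv⟩)
        · exact hx u hu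
        · exact (hx v hv).symm
        · rfl)
    refine (hmax _ ⟨hcx, fun u hu => ?_⟩ fun u hu => Subgroup.subset_closure (Or.inl hu)).le
      (Subgroup.subset_closure (Or.inr rfl))
    haveI := hcx
    induction hu using Subgroup.closure_induction with
    | mem v hv =>
      rcases hv with hv | rfl
      · exact he.2 v hv
      · exact hxp
    | one => exact one_pow p
    | mul v w hv hw iv iw =>
      have hvw : Commute v w := congrArg Subtype.val (mul_comm'
        (⟨v, hv⟩ : Subgroup.closure ((E' : Set R) ∪ {x})) ⟨w, hw⟩)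
      rw [hvw.mul_pow, iv, iw, one_mul]
    | inv v _ iv => rw [inv_pow, iv, inv_one]
  have hZ0E : Z0 ≤ E' := (Subgroup.closure_le _).2 fun x hx => Subgroup.subset_closure (Or.inr hx)
  have hZ0C : Z0 ≤ Subgroup.center R := (Subgroup.closure_le _).2 fun x hx => hx.1
  have hep : orderOf e = p := orderOf_eq_prime (he.2 e heE) (fun h => heC (h ▸ one_mem _))
  -- the centralizer of e
  have hsup : Z0 ⊔ Subgroup.zpowers e = E' := by
    refine Subgroup.eq_of_le_of_card_ge (sup_le hZ0E (Subgroup.zpowers_le.2 heE)) ?_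
    obtain ⟨b, hb⟩ := IsPGroup.iff_card.1 (hR.to_subgroup (Z0 ⊔ Subgroup.zpowers e))
    have h1 : Nat.card Z0 < p ^ b := by
      rw [← hb]
      by_contra hge
      have heZ : e ∈ Z0 := (Subgroup.eq_of_le_of_card_ge le_sup_left (not_lt.1 hge)).ge
        (Subgroup.mem_sup_right (Subgroup.mem_zpowers e))
      exact heC fun w _ => Subgroup.mem_center_iff.1 (hZ0C heZ) w
    rw [hZ0] at h1
    rw [ha, hb]
    refine Nat.pow_le_pow_right hpp.pos ?_
    exact (Nat.pow_lt_pow_iff_right hpp.one_lt).1 ((pow_one p).le.trans_lt h1)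
  set R0 := Subgroup.zpowers e with hR0
  have hcent : Subgroup.centralizer (R0 : Set R) = Subgroup.centralizer (E' : Set R) := by
    refine le_antisymm (fun x hx u hu => ?_) (Subgroup.centralizer_le (Subgroup.zpowers_le.2 heE))
    rw [SetLike.mem_coe, ← hsup] at hu
    haveI : Z0.Normal := ⟨fun z hz r => by
      rw [(Subgroup.mem_center_iff.mp (hZ0C hz)) r, mul_inv_cancel_right]
      exact hz⟩
    obtain ⟨z, hz, w, hw, rfl⟩ := Subgroup.mem_sup_of_normal_left.1 hu
    exact (Commute.mul_left ((Subgroup.mem_center_iff.mp (hZ0C hz)) x).symm (hx w hw)).eq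
  set R1 := Subgroup.centralizer (R0 : Set R) ⊓ C with hR1
  refine Or.inr ⟨R0, R1, by rw [hR0, Nat.card_zpowers, hep], ?_, ?_, fun u hu v hv => hv.1 u hu, ?_⟩
  · by_contra hnc
    obtain ⟨A, -, -, hAe, hAc⟩ := CfsgLib.CyclicMax.exists_normal_rank_two (hR.to_subgroup R1) hp2
      (⊤ : Subgroup R1) inferInstance fun h => hnc (by
        haveI := h
        exact isCyclic_of_surjective Subgroup.topEquiv (MulEquiv.surjective _))
    have hAsub : A.map R1.subtype ≤ E' ⊓ C := by
      rintro _ ⟨x, hx, rfl⟩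
      exact ⟨hadd x (hcent ▸ x.2.1) (congrArg Subtype.val (hAe.2 x hx)), x.2.2⟩
    have hcard := Subgroup.card_le_of_le hAsub
    rw [Subgroup.card_map_of_injective R1.subtype_injective, hAc] at hcard
    have heq : E' ⊓ C = E' := Subgroup.eq_of_le_of_card_ge inf_le_left (ha.le.trans hcard)
    exact hnot (heq ▸ inf_le_right)
  · rw [eq_bot_iff]
    intro x hx
    obtain ⟨k, rfl⟩ := Subgroup.mem_zpowers_iff.1 hx.1
    rw [Subgroup.mem_bot]
    by_contra hne
    haveI : Fact (Nat.card R0).Prime := ⟨by rw [hR0, Nat.card_zpowers, hep]; exact hpp⟩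
    have h1 : (Subgroup.zpowers e ⊓ C).subgroupOf R0 = ⊤ := by
      refine (Subgroup.eq_bot_or_eq_top_of_prime_card _).resolve_left fun hb => hne ?_
      have h2 : (⟨e ^ k, hx.1⟩ : R0) ∈ (Subgroup.zpowers e ⊓ C).subgroupOf R0 := ⟨hx.1, hx.2.2⟩
      rw [hb, Subgroup.mem_bot] at h2
      exact congrArg Subtype.val h2
    exact heC ((Subgroup.subgroupOf_eq_top.1 h1) (Subgroup.mem_zpowers e)).2
  · refine le_antisymm (sup_le (fun u hu v hv => ?_) inf_le_left) fun x hx => ?_
    · obtain ⟨i, rfl⟩ := Subgroup.mem_zpowers_iff.1 hu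
      obtain ⟨j, rfl⟩ := Subgroup.mem_zpowers_iff.1 hv
      exact ((Commute.refl e).zpow_zpow j i).eq
    · have htop : C ⊔ R0 = ⊤ := by
        rw [← Subgroup.index_eq_one]
        have h1 := Subgroup.index_dvd_of_le (le_sup_left : C ≤ C ⊔ R0)
        rw [hidx] at h1
        refine ((Nat.dvd_prime hpp).1 h1).resolve_right fun h2 => heC ?_
        have h3 : C ⊔ R0 = C := by
          symm
          refine Subgroup.eq_of_le_of_card_ge le_sup_left ?_
          have h4 := C.card_mul_index
          have h5 := (C ⊔ R0).card_mul_index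
          rw [hidx] at h4
          rw [h2] at h5
          exact (Nat.eq_of_mul_eq_mul_right hpp.pos (h5.trans h4.symm)).le
        exact h3.le (Subgroup.mem_sup_right (Subgroup.mem_zpowers e))
      obtain ⟨c, hc', w, hw, rfl⟩ := Subgroup.mem_sup_of_normal_left.1 (htop.ge (Subgroup.mem_top x))
      have hwc : w ∈ Subgroup.centralizer (R0 : Set R) := by
        obtain ⟨i, rfl⟩ := Subgroup.mem_zpowers_iff.1 hw
        intro v hv
        obtain ⟨j, rfl⟩ := Subgroup.mem_zpowers_iff.1 hv
        exact ((Commute.refl e).zpow_zpow j i).eq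
      have hcc : c ∈ Subgroup.centralizer (R0 : Set R) := by
        have h := mul_mem hx (inv_mem hwc)
        rwa [mul_inv_cancel_right] at h
      exact mul_mem (Subgroup.mem_sup_right ⟨hcc, hc'⟩) (Subgroup.mem_sup_left hw)

end CfsgLib.BG
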