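import Mathlib
import Cfsg.Prelude.Def_OddOrderLocal
import Cfsg.Agent.Lib.Hall.Basic

/-!
Hall `π`-subgroups in the predicate form used for the local analysis of odd order groups.
-/

set_option autoImplicit false
set_option linter.style.haveILetI false

namespace CfsgLib.BG

open scoped Pointwise

universe u

variable {G : Type u} [Group G] [Finite G]

/-- A normalizer is contained in the normalizer of every characteristic subgroup. -/
theorem normalizer_le_of_char (H : Subgroup G) (T : Subgroup H) (hT : T.Characteristic) :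
    Subgroup.normalizer (H : Set G) ≤ Subgroup.normalizer ((T.map H.subtype : Subgroup G) : Set G) := by
  haveI := hT
  set N := Subgroup.normalizer (H : Set G) with hN
  have h1 : ((T.map H.subtype).subgroupOf N).Normal := by
    haveI : (H.subgroupOf N).Normal := Subgroup.normal_in_normalizer
    let e : (H.subgroupOf N) ≃* H := Subgroup.subgroupOfEquivOfLe Subgroup.le_normalizer
    haveI : (T.map e.symm.toMonoidHom).Characteristic := by
      refine Subgroup.characteristic_iff_map_eq.2 fun φ => ?_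
      have h2 := Subgroup.characteristic_iff_map_eq.1 hT ((e.symm.trans φ).trans e)
      conv_rhs => rw [← h2]
      rw [Subgroup.map_map, Subgroup.map_map]
      congr 1
    have h3 : (T.map e.symm.toMonoidHom).map (H.subgroupOf N).subtype = (T.map H.subtype).subgroupOf N := by
      ext x
      simp only [Subgroup.mem_subgroupOf, Subgroup.mem_map]
      constructor
      · rintro ⟨-, ⟨t, ht, rfl⟩, rfl⟩
        exact ⟨t, ht, rfl⟩
      · rintro ⟨t, ht, htx⟩
        exact ⟨_, ⟨t, ht, rfl⟩, Subtype.ext htx⟩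
    exact h3 ▸ ConjAct.normal_of_characteristic_of_normal
  exact (Subgroup.normal_subgroupOf_iff_le_normalizer
    ((Subgroup.map_subtype_le _).trans Subgroup.le_normalizer)).1 h1

theorem isPiHall_iff {π : Set ℕ} {H : Subgroup G} : Cfsg.IsPiHall π H ↔
    (∀ p : ℕ, p.Prime → p ∣ Nat.card H → p ∈ π) ∧ ∀ p : ℕ, p.Prime → p ∣ H.index → p ∉ π :=
  ⟨fun h => ⟨h.1, fun p hp hd hπ => h.2 p hp hπ hd⟩, fun h => ⟨h.1, fun p hp hπ hd => h.2 p hp hd hπ⟩⟩

theorem eq_one_of_pi_and_compl {π : Set ℕ} {n : ℕ} (h1 : ∀ p : ℕ, p.Prime → p ∣ n → p ∈ π)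
    (h2 : ∀ p : ℕ, p.Prime → p ∣ n → p ∉ π) : n = 1 := by
  by_contra h
  obtain ⟨p, hp, hd⟩ := Nat.exists_prime_and_dvd h
  exact h2 p hp hd (h1 p hp hd)

/-- The order is a product of a `π`-number and a `π'`-number. -/
theorem exists_pi_split (π : Set ℕ) {n : ℕ} (hn : n ≠ 0) : ∃ a b : ℕ, n = a * b ∧ a.Coprime b ∧
    (∀ p : ℕ, p.Prime → p ∣ a → p ∈ π) ∧ ∀ p : ℕ, p.Prime → p ∣ b → p ∉ π := by
  classical
  refine ⟨∏ p ∈ n.primeFactors.filter (· ∈ π), p ^ n.factorization p,
    ∏ p ∈ n.primeFactors.filter (fun q => q ∉ π), p ^ n.factorization p, ?_, ?_, ?_, ?_⟩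
  · rw [Finset.prod_filter_mul_prod_filter_not]
    exact (Nat.factorization_prod_pow_eq_self hn).symm
  · refine Nat.Coprime.prod_left fun p hp => Nat.Coprime.prod_right fun q hq => Nat.Coprime.pow _ _ ?_
    simp only [Finset.mem_filter, Nat.mem_primeFactors] at hp hq
    exact (Nat.coprime_primes hp.1.1 hq.1.1).2 fun h => hq.2 (h ▸ hp.2)
  all_goals
    intro p hp hd
    obtain ⟨q, hq, hdq⟩ := hp.prime.exists_mem_finset_dvd hd
    simp only [Finset.mem_filter, Nat.mem_primeFactors] at hq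
    rw [(Nat.prime_dvd_prime_iff_eq hp hq.1.1).1 (hp.dvd_of_dvd_pow hdq)]
    exact hq.2

/-- Hall: existence. -/
theorem exists_piHall [Group.IsSolvable G] (π : Set ℕ) : ∃ H : Subgroup G, Cfsg.IsPiHall π H := by
  obtain ⟨a, b, hab, hco, ha, hb⟩ := exists_pi_split π (Nat.card_pos (α := G)).ne'
  obtain ⟨H, hH⟩ := Hall.exists_hall hab hco
  refine ⟨H, fun p hp hd => ha p hp (hH ▸ hd), fun p hp hπ hd => hb p hp ?_ hπ⟩
  have h1 := H.card_mul_index
  rw [hH, hab] at h1
  have ha0 : 0 < a := hH ▸ Nat.card_pos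
  rwa [Nat.eq_of_mul_eq_mul_left ha0 h1] at hd

/-- Hall: every `π`-subgroup lies in a conjugate of each Hall `π`-subgroup. -/
theorem exists_conj_le_piHall [Group.IsSolvable G] {π : Set ℕ} {H K : Subgroup G} (hH : Cfsg.IsPiHall π H)
    (hK : ∀ p : ℕ, p.Prime → p ∣ Nat.card K → p ∈ π) : ∃ g : G, K ≤ MulAut.conj g • H := by
  refine Hall.exists_conj_le (m := Nat.card H) (n := H.index) H.card_mul_index.symm ?_ rfl ?_
  · exact Nat.coprime_of_dvd fun p hp h1 h2 => hH.2 p hp (hH.1 p hp h1) h2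
  · exact Nat.coprime_of_dvd fun p hp h1 h2 => hH.2 p hp (hK p hp h1) h2

/-- A normal `π`-subgroup lies in every Hall `π`-subgroup. -/
theorem le_piHall_of_normal {π : Set ℕ} {H K : Subgroup G} (hH : Cfsg.IsPiHall π H) (hKn : K.Normal)
    (hK : ∀ p : ℕ, p.Prime → p ∣ Nat.card K → p ∈ π) : K ≤ H := by
  haveI := hKn
  rw [← Subgroup.relIndex_eq_one]
  refine eq_one_of_pi_and_compl (π := π) (fun p hp hd => hK p hp (hd.trans ?_)) (fun p hp hd hπ => ?_)
  · exact Subgroup.relIndex_dvd_card H K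
  · refine hH.2 p hp hπ ((hd.trans (dvd_of_eq ?_)).trans
      (Subgroup.relIndex_dvd_index_of_le (le_sup_left : H ≤ H ⊔ K)))
    have h1 := Subgroup.relIndex_mul_relIndex ⊥ H (H ⊔ K) bot_le le_sup_left
    have h2 := Subgroup.relIndex_mul_relIndex ⊥ K (H ⊔ K) bot_le le_sup_right
    have h3 := Subgroup.relIndex_mul_relIndex ⊥ (H ⊓ K) H bot_le inf_le_left
    have h4 := Subgroup.relIndex_mul_relIndex ⊥ (H ⊓ K) K bot_le inf_le_right
    rw [Subgroup.inf_relIndex_left] at h3
    rw [Subgroup.inf_relIndex_right] at h4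
    rw [Subgroup.relIndex_sup_right, ← h4, ← h1, ← h3] at h2
    have hpos : 0 < (⊥ : Subgroup G).relIndex (H ⊓ K) * K.relIndex H := by
      rw [h3, Subgroup.relIndex_bot_left]; exact Nat.card_pos
    refine Nat.eq_of_mul_eq_mul_left hpos ?_
    linarith

theorem piHall_characteristic {π : Set ℕ} {N : Subgroup G} (hN : Cfsg.IsPiHall π N) (hn : N.Normal) :
    N.Characteristic := by
  refine Subgroup.characteristic_iff_map_le.2 fun φ => ?_
  refine le_piHall_of_normal hN (hn.map _ φ.surjective) fun p hp hd => hN.1 p hp ?_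
  rwa [Subgroup.card_map_of_injective φ.injective] at hd

theorem piHall_subgroupOf {π : Set ℕ} {N X : Subgroup G} (hN : Cfsg.IsPiHall π N) (hle : N ≤ X) :
    Cfsg.IsPiHall π (N.subgroupOf X) := by
  refine ⟨fun p hp hd => hN.1 p hp ?_, fun p hp hπ hd => hN.2 p hp hπ ?_⟩
  · rwa [Nat.card_congr (Subgroup.subgroupOfEquivOfLe hle).toEquiv] at hd
  · exact hd.trans (Subgroup.relIndex_dvd_index_of_le hle)

end CfsgLib.BG
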