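import Cfsg.Agent.Lib.BG.PLengthHall.Basic

/-!
Inheritance of `p`-length one.
-/

set_option autoImplicit false
set_option linter.style.haveILetI false
set_option linter.unusedSectionVars false

namespace CfsgLib.BG.PLengthOne

open CfsgLib.BG.FixedLine (conj_mem_of_le_normalizer mem_normalizer_of_conj)

universe u

variable {p : ℕ} [hp : Fact p.Prime]

theorem iff_sup_normal {K : Type u} [Group K] [Finite K] (P : Sylow p K) :
    Cfsg.PLengthLE p 1 K ↔ ((P : Subgroup K) ⊔ Cfsg.pPrimeCore p K).Normal := by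
  haveI := CfsgLib.Transfer.pPrimeCore_normal p K
  rw [CfsgLib.Blocks.pLengthLE_one_iff P]
  constructor
  · intro h
    have := h.comap (QuotientGroup.mk' (Cfsg.pPrimeCore p K))
    rwa [Subgroup.comap_map_eq, QuotientGroup.ker_mk'] at this
  · intro h
    have := h.map (QuotientGroup.mk' (Cfsg.pPrimeCore p K)) (QuotientGroup.mk'_surjective _)
    rwa [Subgroup.map_sup, (Subgroup.map_eq_bot_iff _).2 (QuotientGroup.ker_mk' _).ge, sup_bot_eq] at this

theorem le_of_normal_of_sylow_le {K : Type u} [Group K] [Finite K] {N : Subgroup K} [N.Normal] (P : Sylow p K)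
    (hPN : (P : Subgroup K) ≤ N) {X : Subgroup K} (hX : IsPGroup p X) : X ≤ N := by
  obtain ⟨P', hP'⟩ := hX.exists_le_sylow
  obtain ⟨g, rfl⟩ := MulAction.exists_smul_eq K P P'
  refine hP'.trans fun y hy => ?_
  rw [Sylow.coe_subgroup_smul, CfsgLib.Coprime.mem_conj_smul_iff] at hy
  have := (inferInstance : N.Normal).conj_mem _ (hPN hy) g
  simpa [mul_assoc] using this

/-- `p`-length one passes to subgroups. -/
theorem of_injective {K L : Type u} [Group K] [Finite K] [Group L] (f : L →* K) (hf : Function.Injective f)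
    (h : Cfsg.PLengthLE p 1 K) : Cfsg.PLengthLE p 1 L := by
  haveI : Finite L := Finite.of_injective f hf
  haveI := CfsgLib.Transfer.pPrimeCore_normal p K
  haveI := CfsgLib.Transfer.pPrimeCore_normal p L
  obtain ⟨P⟩ : Nonempty (Sylow p K) := inferInstance
  obtain ⟨Q⟩ : Nonempty (Sylow p L) := inferInstance
  haveI hN := (iff_sup_normal P).1 h
  set N₀ := ((P : Subgroup K) ⊔ Cfsg.pPrimeCore p K).comap f with hN₀
  haveI hN₀n : N₀.Normal := hN.comap f
  have hQN : (Q : Subgroup L) ≤ N₀ := Subgroup.map_le_iff_le_comap.1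
    (le_of_normal_of_sylow_le P le_sup_left (Q.2.map f))
  refine (CfsgLib.Blocks.pLengthLE_one_iff Q).2 ?_
  set g := QuotientGroup.mk' (Cfsg.pPrimeCore p L)
  have hgs : Function.Surjective g := QuotientGroup.mk'_surjective _
  have hO : (Cfsg.pPrimeCore p K).comap f ≤ Cfsg.pPrimeCore p L :=
    CfsgLib.Transfer.le_pPrimeCore (Subgroup.Normal.comap inferInstance f)
      ((CfsgLib.Transfer.pPrimeCore_coprime p).coprime_dvd_left
        (Subgroup.card_comap_dvd_of_injective _ f hf))
  have hp' : IsPGroup p (N₀.map g) := by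
    rintro ⟨_, n, hn, rfl⟩
    obtain ⟨k, hk⟩ := (P.2.map (QuotientGroup.mk' (Cfsg.pPrimeCore p K))) ⟨QuotientGroup.mk' _ (f n), by
      have := Subgroup.mem_map_of_mem (QuotientGroup.mk' (Cfsg.pPrimeCore p K)) (Subgroup.mem_comap.1 hn)
      rwa [Subgroup.map_sup, (Subgroup.map_eq_bot_iff _).2 (QuotientGroup.ker_mk' _).ge, sup_bot_eq] at this⟩
    refine ⟨k, Subtype.ext ?_⟩
    have h1 : f (n ^ p ^ k) ∈ Cfsg.pPrimeCore p K := by
      rw [map_pow, ← QuotientGroup.eq_one_iff, QuotientGroup.mk_pow]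
      exact congrArg Subtype.val hk
    show g n ^ p ^ k = 1
    rw [← map_pow, QuotientGroup.mk'_apply, QuotientGroup.eq_one_iff]
    exact hO h1
  have heq : (Q : Subgroup L).map g = N₀.map g := by
    have hle := Subgroup.map_mono (f := g) hQN
    have hQ' := (Q.mapSurjective hgs).is_maximal' (Q := N₀.map g) hp'
    rw [Sylow.coe_mapSurjective] at hQ'
    exact (hQ' hle).symm
  rw [heq]
  exact hN₀n.map g hgs

/-- `p`-length one passes up from a normal subgroup of index prime to `p`. -/
theorem of_normal {K : Type u} [Group K] [Finite K] {N : Subgroup K} [hNn : N.Normal] (hidx : ¬ p ∣ N.index)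
    (h : Cfsg.PLengthLE p 1 N) : Cfsg.PLengthLE p 1 K := by
  haveI := CfsgLib.Transfer.pPrimeCore_normal p K
  obtain ⟨P⟩ : Nonempty (Sylow p N) := inferInstance
  haveI hN1 := (iff_sup_normal P).1 h
  set P' := (P : Subgroup N).map N.subtype with hP'
  have hP'idx : ¬ p ∣ P'.index := by
    have e : P'.index = (P : Subgroup N).index * N.index := by
      rw [hP', Subgroup.index_map_subtype]
    rw [e]
    exact fun hd => (hp.out.dvd_mul.1 hd).elim P.not_dvd_index hidx
  refine (iff_sup_normal ((P.2.map N.subtype).toSylow hP'idx)).2 ?_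
  show (P' ⊔ Cfsg.pPrimeCore p K).Normal
  have hON : (Cfsg.pPrimeCore p N).map N.subtype ≤ Cfsg.pPrimeCore p K := by
    refine CfsgLib.Transfer.le_pPrimeCore (CfsgLib.PSolvable.normal_map_of_characteristic N _) ?_
    rw [Subgroup.card_subtype]
    exact CfsgLib.Transfer.pPrimeCore_coprime p
  have hle : ((P : Subgroup N) ⊔ Cfsg.pPrimeCore p N).map N.subtype ≤ P' ⊔ Cfsg.pPrimeCore p K := by
    rw [Subgroup.map_sup]
    exact sup_le_sup_left hON _
  rw [← Subgroup.normalizer_eq_top_iff, eq_top_iff]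
  intro k _
  refine mem_normalizer_of_conj fun y hy => ?_
  rw [← SetLike.mem_coe, Subgroup.mul_normal, Set.mem_mul] at hy
  obtain ⟨a, ha, b, hb, rfl⟩ := hy
  rw [show k * (a * b) * k⁻¹ = (k * a * k⁻¹) * (k * b * k⁻¹) by group]
  refine mul_mem (hle ?_) (Subgroup.mem_sup_right ((inferInstance : (Cfsg.pPrimeCore p K).Normal).conj_mem b hb k))
  have hX : (P'.map (MulAut.conj k).toMonoidHom).subgroupOf N ≤ (P : Subgroup N) ⊔ Cfsg.pPrimeCore p N :=
    le_of_normal_of_sylow_le P le_sup_left
      (((P.2.map N.subtype).map (MulAut.conj k).toMonoidHom).comap_of_injective N.subtype N.subtype_injective)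
  exact ⟨⟨k * a * k⁻¹, hNn.conj_mem a (Subgroup.map_subtype_le _ ha) k⟩, hX ⟨a, ha, rfl⟩, rfl⟩

end CfsgLib.BG.PLengthOne
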